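import Cfsg.Agent.OddOrderCharacters.Wielandt
import Mathlib
import Cfsg.Agent.H602.L5.U1_m3
import Cfsg.Agent.S1065
import Cfsg.Prelude.Def_KGroupFacts
import Cfsg.Agent.H852.NCPsl11_m3
import Cfsg.Agent.SolvableStructure.MinimalNormal
import Cfsg.Agent.H49.ThFiveDat_m3
import Cfsg.Agent.FastGrp
import Cfsg.Agent.Prune
set_option linter.all false

section
prune_inst 0x7ffefcffeff8b5dfffff7e7ffef5dfffffbdffffe6dffbcbffe9e3ffbbdf6b67dbe5fbaf9fefd8fe9ed6e21610f87bd3fbffee7fee6fdc7ffffd5ff45ffbff9fffffbd0811f7983e1f7e6ffffbf07fae7f3fffffffffffffffffffffffffffffffbfffffffff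

-- part: H857/L5/NoLarge
section
prune_inst 0x1000010044a2000000000000800000002000000000000000000000000008000000000000001000000002000040000000011800000000000000000000000000000000020000400000000000008000000000000000000000000000000000000000000000000
set_option linter.all false
open scoped Cfsg.Agent.FastGrp

-- part: H857/L5/Wiel
section
/-!
# Coprime action of 5-groups (helper857, for S5923, M4)
-/

set_option autoImplicit false
set_option linter.unusedSectionVars false

namespace Cfsg.Agent.H857.L5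

open Subgroup

section W

variable {G : Type*} [Group G] [Finite G]

/-- Wielandt's formula for a partition of `F` modulo `Z` into six subgroups -/
theorem wiel {R F Z : Subgroup G} (X : Option (ZMod 5) → Subgroup G) (hFR : F ≤ normalizer (R : Set G))
    (hcop : (Nat.card F).Coprime (Nat.card R)) (hsolv : Group.IsSolvable R) (hZ : ∀ i, Z ≤ X i) (hX : ∀ i, X i ≤ F)
    (hu : ∀ g ∈ F, g ∉ Z → ∃ i, g ∈ X i ∧ ∀ j, g ∈ X j → j = i) :
    ∏ i, Nat.card ↥(R ⊓ centralizer (X i : Set G)) ^ Nat.card (X i) =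
      Nat.card ↥(R ⊓ centralizer (F : Set G)) ^ Nat.card F *
        (Nat.card ↥(R ⊓ centralizer (Z : Set G)) ^ Nat.card Z) ^ 5 := by
  have hZF : Z ≤ F := (hZ none).trans (hX none)
  have h := Cfsg.Agent.OddOrderCharacters.Wielandt.wielandt F R hFR hcop hsolv X
    (fun j : Option (Fin 5) => j.elim F fun _ => Z) hX (fun j => by
      cases j with
      | none => exact le_refl F
      | some _ => exact hZF) (fun g => ?_)
  · rw [h, Fintype.prod_option]
    congr 1
    exact (Finset.prod_const (s := (Finset.univ : Finset (Fin 5)))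
      (Nat.card ↥(R ⊓ centralizer (Z : Set G)) ^ Nat.card Z)).trans (by rw [Finset.card_univ, Fintype.card_fin])
  · by_cases hgF : g ∈ F
    · by_cases hgZ : g ∈ Z
      · have e1 : Nat.card {i // g ∈ X i} = Nat.card (Option (ZMod 5)) :=
          Nat.card_congr (Equiv.subtypeUnivEquiv fun i => hZ i hgZ)
        have e2 : Nat.card {j : Option (Fin 5) // g ∈ (j.elim F fun _ => Z : Subgroup G)} = Nat.card (Option (Fin 5)) :=
          Nat.card_congr (Equiv.subtypeUnivEquiv fun j => by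
            cases j with
            | none => exact hgF
            | some _ => exact hgZ)
        rw [e1, e2]
        rfl
      · obtain ⟨i, hi, hi2⟩ := hu g hgF hgZ
        have e1 : Nat.card {i // g ∈ X i} = 1 :=
          Nat.card_eq_one_iff_unique.2 ⟨⟨fun a b => Subtype.ext ((hi2 a a.2).trans (hi2 b b.2).symm)⟩, ⟨⟨i, hi⟩⟩⟩
        have e2 : Nat.card {j : Option (Fin 5) // g ∈ (j.elim F fun _ => Z : Subgroup G)} = 1 := by
          refine Nat.card_eq_one_iff_unique.2 ⟨⟨fun a b => Subtype.ext ?_⟩, ⟨⟨none, hgF⟩⟩⟩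
          have key : ∀ a : {j : Option (Fin 5) // g ∈ (j.elim F fun _ => Z : Subgroup G)}, a.1 = none := by
            rintro ⟨j, hj⟩
            cases j with
            | none => rfl
            | some _ => exact absurd hj hgZ
          rw [key a, key b]
        rw [e1, e2]
    · have e1 : Nat.card {i // g ∈ X i} = 0 :=
        Nat.card_eq_zero.2 (Or.inl ⟨fun a => hgF (hX _ a.2)⟩)
      have e2 : Nat.card {j : Option (Fin 5) // g ∈ (j.elim F fun _ => Z : Subgroup G)} = 0 := by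
        refine Nat.card_eq_zero.2 (Or.inl ⟨?_⟩)
        rintro ⟨j, hj⟩
        cases j with
        | none => exact hgF hj
        | some _ => exact hgF (hZF hj)
      rw [e1, e2]

theorem exists_lg {R : Subgroup G} (hR : IsPGroup 2 R) : ∃ d : Subgroup G → ℕ, ∀ A : Subgroup G,
    Nat.card ↥(R ⊓ centralizer (A : Set G)) = 2 ^ d A := by
  have : Fact (Nat.Prime 2) := ⟨Nat.prime_two⟩
  have h : ∀ A : Subgroup G, ∃ n, Nat.card ↥(R ⊓ centralizer (A : Set G)) = 2 ^ n := fun A =>
    (IsPGroup.iff_card).1 (hR.to_le inf_le_left)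
  choose d hd using h
  exact ⟨d, hd⟩

/-- fixed points of a 5-group -/
theorem cong_five {F Z R : Subgroup G} (hF : IsPGroup 5 F) (hZF : Z ≤ F) (hFZ : F ≤ normalizer (Z : Set G))
    (hFR : F ≤ normalizer (R : Set G)) :
    Nat.card ↥(R ⊓ centralizer (Z : Set G)) ≡ Nat.card ↥(R ⊓ centralizer (F : Set G)) [MOD 5] := by
  have : Fact (Nat.Prime 5) := ⟨by norm_num⟩
  have hmem : ∀ g ∈ F, ∀ c ∈ R ⊓ centralizer (Z : Set G), g * c * g⁻¹ ∈ R ⊓ centralizer (Z : Set G) := by
    rintro g hg c ⟨hc1, hc2'⟩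
    have hc2 : c ∈ centralizer (Z : Set G) := hc2'
    refine ⟨(mem_normalizer_iff.1 (hFR hg) c).1 hc1, ?_⟩
    show _ ∈ centralizer (Z : Set G)
    rw [mem_centralizer_iff] at hc2 ⊢
    intro z hz
    have h1 : g⁻¹ * z * g ∈ Z := (mem_normalizer_iff''.1 (hFZ hg) z).1 hz
    have h2 := hc2 _ h1
    calc z * (g * c * g⁻¹) = g * (g⁻¹ * z * g * c) * g⁻¹ := by group
      _ = g * c * g⁻¹ * z := by rw [h2]; group
  let _ : MulAction F ↥(R ⊓ centralizer (Z : Set G)) :=
    { smul := fun g c => ⟨g.1 * c.1 * g.1⁻¹, hmem g.1 g.2 c.1 c.2⟩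
      one_smul := fun c => Subtype.ext (by
        show (1 : G) * c.1 * (1 : G)⁻¹ = c.1
        group)
      mul_smul := fun g h c => Subtype.ext (by
        show (g.1 * h.1) * c.1 * (g.1 * h.1)⁻¹ = g.1 * (h.1 * c.1 * h.1⁻¹) * g.1⁻¹
        group) }
  have h1 := hF.card_modEq_card_fixedPoints ↥(R ⊓ centralizer (Z : Set G))
  have h2 : Nat.card (MulAction.fixedPoints F ↥(R ⊓ centralizer (Z : Set G))) = Nat.card ↥(R ⊓ centralizer (F : Set G)) := by
    refine Nat.card_congr ⟨fun c => ⟨c.1.1, c.1.2.1, ?_⟩, fun c => ⟨⟨c.1, c.2.1, ?_⟩, ?_⟩, fun c => rfl, fun c => rfl⟩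
    · show c.1.1 ∈ centralizer (F : Set G)
      rw [mem_centralizer_iff]
      intro g hg
      have h3 : g * c.1.1 * g⁻¹ = c.1.1 := congrArg Subtype.val (c.2 ⟨g, hg⟩)
      rw [mul_inv_eq_iff_eq_mul] at h3
      exact h3
    · exact centralizer_le hZF c.2.2
    · intro g
      apply Subtype.ext
      show g.1 * c.1 * g.1⁻¹ = c.1
      rw [mem_centralizer_iff.1 c.2.2 g.1 g.2, mul_inv_cancel_right]
  rw [h2] at h1
  exact h1

/-- conjugate subgroups have fixed points of the same number -/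
theorem card_conj {R A : Subgroup G} {y : G} (hy : y ∈ normalizer (R : Set G)) :
    Nat.card ↥(R ⊓ centralizer (A.map (MulAut.conj y).toMonoidHom : Set G)) = Nat.card ↥(R ⊓ centralizer (A : Set G)) := by
  have h : R ⊓ centralizer (A.map (MulAut.conj y).toMonoidHom : Set G) =
      (R ⊓ centralizer (A : Set G)).map (MulAut.conj y).toMonoidHom := by
    ext x
    constructor
    · rintro ⟨h1, h2'⟩
      have h2 : x ∈ centralizer (A.map (MulAut.conj y).toMonoidHom : Set G) := h2'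
      refine ⟨y⁻¹ * x * y, ⟨(mem_normalizer_iff''.1 hy x).1 h1, ?_⟩, ?_⟩
      · show _ ∈ centralizer (A : Set G)
        rw [mem_centralizer_iff] at h2 ⊢
        intro a ha
        have h3 := h2 (y * a * y⁻¹) ⟨a, ha, rfl⟩
        calc a * (y⁻¹ * x * y) = y⁻¹ * (y * a * y⁻¹ * x) * y := by group
          _ = y⁻¹ * x * y * a := by rw [h3]; group
      · show y * (y⁻¹ * x * y) * y⁻¹ = x
        group
    · rintro ⟨c, ⟨h1, h2⟩, rfl⟩
      refine ⟨(mem_normalizer_iff.1 hy c).1 h1, ?_⟩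
      show _ ∈ centralizer (A.map (MulAut.conj y).toMonoidHom : Set G)
      rw [mem_centralizer_iff]
      rintro _ ⟨a, ha, rfl⟩
      show y * a * y⁻¹ * (y * c * y⁻¹) = y * c * y⁻¹ * (y * a * y⁻¹)
      have h3 : a * c = c * a := mem_centralizer_iff.1 h2 a ha
      calc y * a * y⁻¹ * (y * c * y⁻¹) = y * (a * c) * y⁻¹ := by group
        _ = y * c * y⁻¹ * (y * a * y⁻¹) := by rw [h3]; group
  rw [h]
  exact Nat.card_congr (Subgroup.equivMapOfInjective _ _ (MulAut.conj y).injective).symm.toEquiv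

/-- two subgroups of order 5 with a common nontrivial element are equal -/
theorem eq_of_five {A B : Subgroup G} (hA : Nat.card A = 5) (hB : Nat.card B = 5) {g : G} (h1 : g ∈ A) (h2 : g ∈ B)
    (hg : g ≠ 1) : A = B := by
  have key : ∀ C : Subgroup G, Nat.card C = 5 → g ∈ C → zpowers g = C := by
    intro C hC hgC
    have hle : zpowers g ≤ C := by
      rw [zpowers_le]
      exact hgC
    refine eq_of_le_of_card_ge hle ?_
    have h3 : Nat.card ↥(zpowers g) ∣ 5 := by
      rw [← hC]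
      exact card_dvd_of_le hle
    rcases (Nat.dvd_prime (by norm_num : Nat.Prime 5)).1 h3 with h4 | h4
    · rw [Nat.card_zpowers, orderOf_eq_one_iff] at h4
      exact absurd h4 hg
    · rw [hC, h4]
  rw [← key A hA h1, ← key B hB h2]

end W

theorem two_pow_mod (x : ℕ) : 2 ^ x % 5 = 2 ^ (x % 4) % 5 := by
  conv_lhs => rw [← Nat.div_add_mod x 4]
  rw [pow_add, pow_mul, Nat.mul_mod, Nat.pow_mod]
  norm_num

/-- the order of 2 modulo 5 is 4 -/
theorem mod_four {x y : ℕ} (h : 2 ^ x ≡ 2 ^ y [MOD 5]) : x % 4 = y % 4 := by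
  have h1 : 2 ^ x % 5 = 2 ^ y % 5 := h
  rw [two_pow_mod, two_pow_mod y] at h1
  have hx : x % 4 < 4 := Nat.mod_lt _ (by norm_num)
  have hy : y % 4 < 4 := Nat.mod_lt _ (by norm_num)
  revert h1
  generalize x % 4 = a at hx
  generalize y % 4 = b at hy
  interval_cases a <;> interval_cases b <;> simp

end Cfsg.Agent.H857.L5
end

-- part: H975/L5/Gen
section
/-!
# A simple group normalising an abelian subgroup: order arguments (helper975, for S5923)
-/

set_option autoImplicit false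

namespace Cfsg.Agent.H975.L5

open Subgroup

section Gen

variable {S G : Type*} [Group S] [Group G] {f : S →* G} {R : Subgroup G}

/-- the conjugation action of `S` on `R` through `f`. -/
noncomputable def conjHom (f : S →* G) (R : Subgroup G) (hn : f.range ≤ normalizer (R : Set G)) : S →* MulAut R :=
  R.normalizerMonoidHom.comp (f.codRestrict _ fun x => hn ⟨x, rfl⟩)

/-- the preimage of `R` is normal. -/
theorem comap_normal (hn : f.range ≤ normalizer (R : Set G)) : (R.comap f).Normal := ⟨fun x hx g => by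
  rw [mem_comap] at hx ⊢
  have h := (mem_normalizer_iff.1 (hn ⟨g, rfl⟩) (f x)).1 hx
  rw [map_mul, map_mul, map_inv]
  exact h⟩

/-- `|R| |S|` divides `|G|`. -/
theorem card_mul_dvd [Finite G] (hn : f.range ≤ normalizer (R : Set G))
    (hd : ∀ x, f x ∈ R → x = 1) : Nat.card R * Nat.card S ∣ Nat.card G := by
  let F : R ⋊[conjHom f R hn] S →* G := SemidirectProduct.lift R.subtype f (fun x => by
    ext r
    rfl)
  have hF : Function.Injective F := by
    rw [injective_iff_map_eq_one]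
    intro y hy
    have h1 : (y.left : G) * f y.right = 1 := by
      have h2 : F y = (y.left : G) * f y.right := by
        conv_lhs => rw [← SemidirectProduct.inl_left_mul_inr_right y]
        rw [map_mul, SemidirectProduct.lift_inl, SemidirectProduct.lift_inr]
        rfl
      rw [← h2, hy]
    have h3 : f y.right ∈ R := by
      rw [eq_inv_of_mul_eq_one_right h1]
      exact R.inv_mem y.left.2
    have h4 := hd _ h3
    rw [h4, map_one, mul_one] at h1
    refine SemidirectProduct.ext (Subtype.ext h1) h4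
  rw [← SemidirectProduct.card (φ := conjHom f R hn)]
  exact Subgroup.card_dvd_of_injective F hF

/-- `S` simple, with a prime `p > |R|` dividing `|S|`: `S` centralises `R`. -/
theorem centralise [Finite G] [IsSimpleGroup S] (hn : f.range ≤ normalizer (R : Set G)) {p : ℕ} (hp : p.Prime)
    (hpS : p ∣ Nat.card S) (hlt : Nat.card R < p) (x : S) {r : G} (hr : r ∈ R) : f x * r = r * f x := by
  have hfR : Finite R := inferInstance
  rcases (MonoidHom.normal_ker (conjHom f R hn)).eq_bot_or_eq_top with h | h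
  · exfalso
    have hinj : Function.Injective (conjHom f R hn) := (MonoidHom.ker_eq_bot_iff _).1 h
    let e : MulAut R →* Equiv.Perm R := MulAut.toPerm R
    have he : Function.Injective e := fun a b hab => MulEquiv.ext fun r => congrArg (fun σ : Equiv.Perm R => σ r) hab
    have h1 := Subgroup.card_dvd_of_injective (e.comp (conjHom f R hn)) (he.comp hinj)
    rw [Nat.card_perm] at h1
    have h2 := (hp.dvd_factorial).1 (hpS.trans h1)
    omega
  · have h1 : x ∈ (conjHom f R hn).ker := by rw [h]; trivial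
    have h2 := congrArg (fun σ : MulAut R => ((σ ⟨r, hr⟩ : R) : G)) ((MonoidHom.mem_ker).1 h1)
    have h3 : f x * r * (f x)⁻¹ = r := h2
    rwa [mul_inv_eq_iff_eq_mul] at h3

end Gen

section Fix

/-- a `p`-group of linear maps in characteristic `p` has a nonzero fixed vector. -/
theorem exists_fix {p : ℕ} [Fact p.Prime] {R V : Type*} [Group R] [Finite R] (hR : IsPGroup p R) [AddCommGroup V] [Finite V]
    (hV : p ∣ Nat.card V) (ρ : R → V → V) (h1 : ∀ v, ρ 1 v = v) (hm : ∀ g h v, ρ (g * h) v = ρ g (ρ h v))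
    (h0 : ∀ g, ρ g 0 = 0) : ∃ v, v ≠ 0 ∧ ∀ g, ρ g v = v := by
  let _ : MulAction R V := { smul := ρ, one_smul := h1, mul_smul := hm }
  have hd : p ∣ Nat.card (MulAction.fixedPoints R V) :=
    (Nat.modEq_zero_iff_dvd.1 ((hR.card_modEq_card_fixedPoints V).symm.trans (Nat.modEq_zero_iff_dvd.2 hV)))
  have hz : (0 : V) ∈ MulAction.fixedPoints R V := fun g => h0 g
  have hpos : 0 < Nat.card (MulAction.fixedPoints R V) := Nat.card_pos_iff.2 ⟨⟨⟨0, hz⟩⟩, inferInstance⟩
  have h2 : 1 < Nat.card (MulAction.fixedPoints R V) := by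
    have h3 := Nat.le_of_dvd hpos hd
    have h4 := (Fact.out : p.Prime).two_le
    omega
  obtain ⟨v, hv⟩ : ∃ v : MulAction.fixedPoints R V, v ≠ ⟨0, hz⟩ := by
    have := Finite.one_lt_card_iff_nontrivial.1 h2
    exact exists_ne _
  exact ⟨v.1, fun h => hv (Subtype.ext h), fun g => v.2 g⟩

end Fix

end Cfsg.Agent.H975.L5
end

-- part: H975/L5/M12
section
/-!
# S5923, pieces M1 and M2: `f(SL₃(5))` normalises no nontrivial 3-subgroup and no nontrivial elementary abelian 5-subgroup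
(helper975)
-/

set_option autoImplicit false
set_option linter.unusedSectionVars false

namespace Cfsg.Agent.H975.L5

open Subgroup Cfsg Cfsg.Lie Cfsg.Lie.ChevalleyDatum
open Cfsg.Agent.H865.L5

/-- `ac` is faithful. -/
theorem eq_one_of_ac {K : Type} [Field K] {g : ↥(chevE8.group K)} (h : ∀ v, ac g v = v) : g = 1 := by
  apply Subtype.ext
  apply Units.ext
  have h1 : Matrix.toLin' ((g : GL chevE8.Idx K) : Matrix chevE8.Idx chevE8.Idx K) = Matrix.toLin' 1 := by
    rw [Matrix.toLin'_one]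
    exact LinearMap.ext h
  exact Matrix.toLin'.injective h1

theorem ac_conj {K : Type} [Field K] (g r : ↥(chevE8.group K)) (v : chevE8.Idx → K) :
    ac r (ac g v) = ac g (ac (g⁻¹ * r * g) v) := by
  rw [← ac_mul, ← ac_mul]
  congr 1
  group

/-- M1, from irreducibility. -/
theorem no_three_of {f : SL35 →* G3}
    (hirr : ∀ W : Submodule (ZMod 3) (chevE8.Idx → ZMod 3), (∀ x, ∀ v ∈ W, ac (f x) v ∈ W) → W = ⊥ ∨ W = ⊤)
    {R : Subgroup G3} (hR : R ≠ ⊥) (h3 : IsPGroup 3 R) (hn : f.range ≤ Subgroup.normalizer (R : Set G3)) : False := by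
  have hfin : Finite G3 := inferInstance
  have hRf : Finite R := inferInstance
  have hV : 3 ∣ Nat.card (chevE8.Idx → ZMod 3) := by
    rw [Nat.card_fun, Nat.card_zmod]
    refine dvd_pow_self 3 ?_
    exact (Nat.card_pos_iff.2 ⟨⟨Sum.inl (0 : Fin 8)⟩, inferInstance⟩).ne'
  obtain ⟨v, hv0, hv⟩ := exists_fix (p := 3) h3 hV (fun (r : R) v => ac (r : G3) v) (fun v => ac_one v)
    (fun g h v => ac_mul _ _ v) (fun g => map_zero _)
  have hinv : ∀ x, ∀ v ∈ Fx (R : Set G3), ac (f x) v ∈ Fx (R : Set G3) := by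
    intro x v hv r hr
    rw [ac_conj, hv]
    exact ((mem_normalizer_iff'' (g := f x)).1 (hn ⟨x, rfl⟩) r).1 hr
  rcases hirr (Fx (R : Set G3)) hinv with h | h
  · apply hv0
    have h1 : v ∈ Fx (R : Set G3) := fun r hr => hv ⟨r, hr⟩
    rw [h] at h1
    exact (Submodule.mem_bot _).1 h1
  · apply hR
    rw [eq_bot_iff]
    intro r hr
    rw [Subgroup.mem_bot]
    apply eq_one_of_ac
    intro v
    have h1 : v ∈ Fx (R : Set G3) := by rw [h]; trivial
    exact h1 r hr

/-- the order of `E₈(3)` is not divisible by `5⁶`. -/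
theorem not_dvd_G3 : ¬ 5 ^ 6 ∣ Nat.card G3 := by
  rw [S1065.result (F := ZMod 3) (ZMod.card 3)]
  norm_num

/-- M2, with the facts on `SL₃(5)` as hypotheses. -/
theorem no_five_of (hcard : Nat.card SL35 = 372000) (hsimple : IsSimpleGroup SL35)
    {f : SL35 →* G3} (h : GoodIn ⊤ f) (hf : Function.Injective f) {R : Subgroup G3}
    (hR : R ≠ ⊥) (h5 : ∀ x ∈ R, x ^ 5 = 1) (hn : f.range ≤ Subgroup.normalizer (R : Set G3)) : False := by
  have hfin : Finite G3 := inferInstance
  have hRf : Finite R := inferInstance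
  -- `f x ∈ R` implies `x = 1`
  have hd : ∀ x, f x ∈ R → x = 1 := by
    intro x hx
    rcases (comap_normal hn).eq_bot_or_eq_top with h1 | h1
    · have h2 : x ∈ R.comap f := hx
      rw [h1] at h2
      exact h2
    · exfalso
      have h2 : z0 ∈ R.comap f := by rw [h1]; trivial
      have h3 := h5 _ h2
      rw [← map_pow, ← map_one f] at h3
      have h4 := hf h3
      have h5 : (z0 ^ 5).1 0 0 = (1 : SL35).1 0 0 := by rw [h4]
      revert h5
      decide
  have hp : IsPGroup 5 R := by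
    intro x
    exact ⟨1, Subtype.ext (by rw [pow_one]; exact h5 x x.2)⟩
  obtain ⟨m, hm⟩ := IsPGroup.iff_card.1 hp
  have h1 := card_mul_dvd hn hd
  rw [hm, hcard] at h1
  have hm2 : m ≤ 2 := by
    by_contra hcon
    apply not_dvd_G3
    refine dvd_trans ?_ h1
    have h2 : 5 ^ 3 ∣ 5 ^ m := pow_dvd_pow 5 (by omega)
    have h3 : 5 ^ 3 ∣ 372000 := by norm_num
    rw [show (5 : ℕ) ^ 6 = 5 ^ 3 * 5 ^ 3 by norm_num]
    exact Nat.mul_dvd_mul h2 h3
  have hlt : Nat.card R < 31 := by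
    rw [hm]
    have : 5 ^ m ≤ 5 ^ 2 := Nat.pow_le_pow_right (by norm_num) hm2
    omega
  apply hR
  rw [eq_bot_iff]
  intro r hr
  rw [Subgroup.mem_bot]
  have hc : ∀ x, f x * r = r * f x := fun x =>
    centralise hn (by norm_num : Nat.Prime 31) (by rw [hcard]; norm_num) hlt x hr
  obtain ⟨s, -, rfl⟩ := h.centS r trivial fun s _ => (hc s).symm
  rw [hd s hr, map_one]

end Cfsg.Agent.H975.L5
end

-- part: H857/L5/NoTwo
section
/-!
# S5923, M4: `f(SL₃(5))` normalises no nontrivial elementary abelian 2-subgroup (helper857)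
-/

set_option autoImplicit false
set_option linter.unusedSectionVars false

namespace Cfsg.Agent.H857.L5

open Subgroup Cfsg Cfsg.Lie Cfsg.Lie.ChevalleyDatum
open Cfsg.Agent.H865.L5

namespace NTw

open Cfsg.Agent.H858.L5 (us_mul us_inv us_inj us_zero vp_eq vl_eq uS vP vL card_uS card_vP card_vL)

/-- the points of the projective line -/
def on : Option (ZMod 5) → ZMod 5 → ZMod 5 → Prop
  | none, a, _ => a = 0
  | some l, a, c => c = l * a

instance decOn : ∀ (i : Option (ZMod 5)) (a c : ZMod 5), Decidable (on i a c)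
  | none, a, _ => inferInstanceAs (Decidable (a = 0))
  | some l, a, c => inferInstanceAs (Decidable (c = l * a))

theorem on_zero (i : Option (ZMod 5)) : on i 0 0 := by
  cases i with
  | none => rfl
  | some l => exact (mul_zero l).symm

theorem on_add {i : Option (ZMod 5)} {a c a' c' : ZMod 5} (h : on i a c) (h' : on i a' c') : on i (a + a') (c + c') := by
  cases i with
  | none =>
    have e : a = 0 := h
    have e' : a' = 0 := h'
    show a + a' = 0
    rw [e, e', add_zero]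
  | some l =>
    have e : c = l * a := h
    have e' : c' = l * a' := h'
    show c + c' = l * (a + a')
    rw [e, e', mul_add]

theorem on_neg {i : Option (ZMod 5)} {a c : ZMod 5} (h : on i a c) : on i (-a) (-c) := by
  cases i with
  | none =>
    have e : a = 0 := h
    show -a = 0
    rw [e, neg_zero]
  | some l =>
    have e : c = l * a := h
    show -c = l * -a
    rw [e, mul_neg]

theorem on_unique : ∀ a c : ZMod 5, ¬ (a = 0 ∧ c = 0) → ∃ i, on i a c ∧ ∀ j, on j a c → j = i := by decide +kernel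

theorem on_pt : ∀ i : Option (ZMod 5), ∃ a c : ZMod 5, on i a c ∧ ¬ (a = 0 ∧ c = 0) := by decide

theorem card_on : ∀ i : Option (ZMod 5), Fintype.card {p : ZMod 5 × ZMod 5 // on i p.1 p.2} = 5 := by decide +kernel

/-- the subgroups of order 5 of `VP` -/
def lP (i : Option (ZMod 5)) : Subgroup SL35 where
  carrier := {g | ∃ a b, g = us a b 0 ∧ on i a b}
  one_mem' := ⟨0, 0, us_zero.symm, on_zero i⟩
  mul_mem' := by
    rintro _ _ ⟨a, b, rfl, h⟩ ⟨a', b', rfl, h'⟩
    refine ⟨a + a', b + b', ?_, on_add h h'⟩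
    rw [us_mul, us_inj]
    exact ⟨rfl, by ring, by ring⟩
  inv_mem' := by
    rintro _ ⟨a, b, rfl, h⟩
    refine ⟨-a, -b, ?_, on_neg h⟩
    rw [us_inv, us_inj]
    exact ⟨rfl, by ring, by ring⟩

/-- the subgroups of order 5 of `VL` -/
def lL (i : Option (ZMod 5)) : Subgroup SL35 where
  carrier := {g | ∃ a b, g = us 0 a b ∧ on i a b}
  one_mem' := ⟨0, 0, us_zero.symm, on_zero i⟩
  mul_mem' := by
    rintro _ _ ⟨a, b, rfl, h⟩ ⟨a', b', rfl, h'⟩
    refine ⟨a + a', b + b', ?_, on_add h h'⟩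
    rw [us_mul, us_inj]
    exact ⟨by ring, by ring, rfl⟩
  inv_mem' := by
    rintro _ ⟨a, b, rfl, h⟩
    refine ⟨-a, -b, ?_, on_neg h⟩
    rw [us_inv, us_inj]
    exact ⟨by ring, by ring, rfl⟩

/-- the subgroups of order 25 of `US` -/
def l2 (i : Option (ZMod 5)) : Subgroup SL35 where
  carrier := {g | ∃ a b c, g = us a b c ∧ on i a c}
  one_mem' := ⟨0, 0, 0, us_zero.symm, on_zero i⟩
  mul_mem' := by
    rintro _ _ ⟨a, b, c, rfl, h⟩ ⟨a', b', c', rfl, h'⟩
    exact ⟨_, _, _, us_mul _ _ _ _ _ _, on_add h h'⟩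
  inv_mem' := by
    rintro _ ⟨a, b, c, rfl, h⟩
    exact ⟨_, _, _, us_inv _ _ _, on_neg h⟩

theorem card_lP (i : Option (ZMod 5)) : Nat.card (lP i) = 5 := by
  let f : {p : ZMod 5 × ZMod 5 // on i p.1 p.2} → lP i := fun p => ⟨us p.1.1 p.1.2 0, ⟨_, _, rfl, p.2⟩⟩
  have hf : Function.Bijective f := by
    constructor
    · rintro ⟨⟨a, b⟩, h⟩ ⟨⟨a', b'⟩, h'⟩ h2
      have h1 := us_inj.1 (congrArg Subtype.val h2)
      exact Subtype.ext (Prod.ext h1.1 h1.2.1)
    · rintro ⟨_, a, b, rfl, h⟩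
      exact ⟨⟨(a, b), h⟩, rfl⟩
  rw [← Nat.card_congr (Equiv.ofBijective f hf), Nat.card_eq_fintype_card, card_on]

theorem card_lL (i : Option (ZMod 5)) : Nat.card (lL i) = 5 := by
  let f : {p : ZMod 5 × ZMod 5 // on i p.1 p.2} → lL i := fun p => ⟨us 0 p.1.1 p.1.2, ⟨_, _, rfl, p.2⟩⟩
  have hf : Function.Bijective f := by
    constructor
    · rintro ⟨⟨a, b⟩, h⟩ ⟨⟨a', b'⟩, h'⟩ h2
      have h1 := us_inj.1 (congrArg Subtype.val h2)
      exact Subtype.ext (Prod.ext h1.2.1 h1.2.2)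
    · rintro ⟨_, a, b, rfl, h⟩
      exact ⟨⟨(a, b), h⟩, rfl⟩
  rw [← Nat.card_congr (Equiv.ofBijective f hf), Nat.card_eq_fintype_card, card_on]

theorem card_l2 (i : Option (ZMod 5)) : Nat.card (l2 i) = 25 := by
  let f : {p : ZMod 5 × ZMod 5 // on i p.1 p.2} × ZMod 5 → l2 i := fun p =>
    ⟨us p.1.1.1 p.2 p.1.1.2, ⟨_, _, _, rfl, p.1.2⟩⟩
  have hf : Function.Bijective f := by
    constructor
    · rintro ⟨⟨⟨a, b⟩, h⟩, c⟩ ⟨⟨⟨a', b'⟩, h'⟩, c'⟩ h2
      have h1 := us_inj.1 (congrArg Subtype.val h2)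
      exact Prod.ext (Subtype.ext (Prod.ext h1.1 h1.2.2)) h1.2.1
    · rintro ⟨_, a, b, c, rfl, h⟩
      exact ⟨(⟨(a, c), h⟩, b), rfl⟩
  rw [← Nat.card_congr (Equiv.ofBijective f hf), Nat.card_prod, Nat.card_eq_fintype_card, card_on, Nat.card_zmod]

theorem l2_none : l2 none = vL := by
  ext g
  constructor
  · rintro ⟨a, b, c, rfl, h⟩
    have e : a = 0 := h
    exact ⟨b, c, by rw [e, vl_eq]⟩
  · rintro ⟨b, c, rfl⟩
    exact ⟨0, b, c, vl_eq _ _, rfl⟩

theorem l2_zero : l2 (some 0) = vP := by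
  ext g
  constructor
  · rintro ⟨a, b, c, rfl, h⟩
    have e : c = 0 * a := h
    exact ⟨a, b, by rw [e, zero_mul, vp_eq]⟩
  · rintro ⟨a, b, rfl⟩
    exact ⟨a, b, 0, vp_eq _ _, (zero_mul a).symm⟩

/-- the centre of `US` -/
def z5 : Subgroup SL35 := lP none

theorem card_z5 : Nat.card z5 = 5 := card_lP none

theorem mem_z5 {g : SL35} : g ∈ z5 ↔ ∃ b, g = us 0 b 0 := by
  constructor
  · rintro ⟨a, b, rfl, h⟩
    have e : a = 0 := h
    exact ⟨b, by rw [e]⟩
  · rintro ⟨b, rfl⟩
    exact ⟨0, b, rfl, rfl⟩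

theorem z5_comm {g z : SL35} (hg : g ∈ US) (hz : z ∈ z5) : g * z = z * g := by
  obtain ⟨a, b, c, rfl⟩ := hg
  obtain ⟨b', rfl⟩ := mem_z5.1 hz
  rw [us_mul, us_mul, us_inj]
  exact ⟨by ring, by ring, by ring⟩

theorem z5_mem : us 0 1 0 ∈ z5 := mem_z5.2 ⟨1, rfl⟩

theorem us_ne : us 0 1 0 ≠ 1 := by
  rw [← us_zero]
  intro h
  exact one_ne_zero (us_inj.1 h).2.1

theorem us_pow_five' (a b c : ZMod 5) : us a b c ^ 5 = 1 := by
  have h5 : (5 : ZMod 5) = 0 := rfl
  rw [pow_succ, pow_succ, pow_succ, pow_succ, pow_one, us_mul, us_mul, us_mul, us_mul, ← us_zero, us_inj]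
  exact ⟨by linear_combination a * h5, by linear_combination (b + 2 * a * c) * h5, by linear_combination c * h5⟩

theorem lP_le (i : Option (ZMod 5)) : lP i ≤ vP := by
  rintro _ ⟨a, b, rfl, -⟩
  exact ⟨a, b, (vp_eq _ _).symm⟩

theorem lL_le (i : Option (ZMod 5)) : lL i ≤ vL := by
  rintro _ ⟨a, b, rfl, -⟩
  exact ⟨a, b, (vl_eq _ _).symm⟩

theorem l2_le (i : Option (ZMod 5)) : l2 i ≤ uS := by
  rintro _ ⟨a, b, c, rfl, -⟩
  exact ⟨a, b, c, rfl⟩

theorem z5_le (i : Option (ZMod 5)) : z5 ≤ l2 i := by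
  intro g hg
  obtain ⟨b, rfl⟩ := mem_z5.1 hg
  exact ⟨0, b, 0, rfl, on_zero i⟩

theorem lP_unique : ∀ g ∈ vP, g ∉ (⊥ : Subgroup SL35) → ∃ i, g ∈ lP i ∧ ∀ j, g ∈ lP j → j = i := by
  rintro _ ⟨a, b, rfl⟩ hg
  have h : ¬ (a = 0 ∧ b = 0) := by
    rintro ⟨rfl, rfl⟩
    exact hg (mem_bot.2 (by rw [vp_eq, us_zero]))
  obtain ⟨i, hi, hi2⟩ := on_unique a b h
  refine ⟨i, ⟨a, b, vp_eq _ _, hi⟩, ?_⟩
  rintro j ⟨a', b', e, hj⟩
  rw [vp_eq, us_inj] at e
  obtain ⟨rfl, rfl, -⟩ := e
  exact hi2 j hj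

theorem lL_unique : ∀ g ∈ vL, g ∉ (⊥ : Subgroup SL35) → ∃ i, g ∈ lL i ∧ ∀ j, g ∈ lL j → j = i := by
  rintro _ ⟨a, b, rfl⟩ hg
  have h : ¬ (a = 0 ∧ b = 0) := by
    rintro ⟨rfl, rfl⟩
    exact hg (mem_bot.2 (by rw [vl_eq, us_zero]))
  obtain ⟨i, hi, hi2⟩ := on_unique a b h
  refine ⟨i, ⟨a, b, vl_eq _ _, hi⟩, ?_⟩
  rintro j ⟨a', b', e, hj⟩
  rw [vl_eq, us_inj] at e
  obtain ⟨-, rfl, rfl⟩ := e
  exact hi2 j hj

theorem l2_unique : ∀ g ∈ uS, g ∉ z5 → ∃ i, g ∈ l2 i ∧ ∀ j, g ∈ l2 j → j = i := by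
  rintro _ ⟨a, b, c, rfl⟩ hg
  have h : ¬ (a = 0 ∧ c = 0) := by
    rintro ⟨rfl, rfl⟩
    exact hg (mem_z5.2 ⟨b, rfl⟩)
  obtain ⟨i, hi, hi2⟩ := on_unique a c h
  refine ⟨i, ⟨a, b, c, rfl, hi⟩, ?_⟩
  rintro j ⟨a', b', c', e, hj⟩
  rw [us_inj] at e
  obtain ⟨rfl, -, rfl⟩ := e
  exact hi2 j hj

private theorem cardConj {G : Type*} [Group G] (x : G) (H : Subgroup G) :
    Nat.card (H.map (MulAut.conj x).toMonoidHom) = Nat.card H :=
  (Nat.card_congr (Subgroup.equivMapOfInjective H (MulAut.conj x).toMonoidHom (MulAut.conj x).injective).toEquiv).symm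

/-- all subgroups `lP i` are conjugate to the centre -/
theorem lP_conj (i : Option (ZMod 5)) : ∃ x : SL35, (lP i).map (MulAut.conj x).toMonoidHom = z5 := by
  obtain ⟨a, b, h, h0⟩ := on_pt i
  obtain ⟨c, d, hcd⟩ : ∃ c d : ZMod 5, c * b - d * a = 1 := by
    clear h
    revert h0
    revert a b
    decide +kernel
  let x : SL35 := ⟨!![1, 0, 0; 0, c, d; 0, a, b], by rw [Matrix.det_fin_three]; simp; linear_combination hcd⟩
  have hx : x * us a b 0 = us 0 1 0 * x := by
    apply Subtype.ext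
    show (!![1, 0, 0; 0, c, d; 0, a, b] : Matrix (Fin 3) (Fin 3) (ZMod 5)) * !![1, a, b; 0, 1, 0; 0, 0, 1] =
      !![1, 0, 1; 0, 1, 0; 0, 0, 1] * !![1, 0, 0; 0, c, d; 0, a, b]
    ext i j
    (revert i j; simp only [Matrix.mul_apply, Fin.sum_univ_three, _root_.Fin.forall_fin_succ, _root_.Matrix.of_apply, _root_.Matrix.cons_val', _root_.Matrix.cons_val_fin_one, Fin.isValue, _root_.Matrix.cons_val_zero, _root_.Matrix.cons_val_one, _root_.Matrix.cons_val, _root_.mul_one, _root_.MulZeroClass.mul_zero, _root_.add_zero, _root_.Matrix.cons_val_succ, _root_.zero_add, _root_.forall_const, _root_.true_and, _root_.one_mul, _root_.MulZeroClass.zero_mul, _root_.and_self, _root_.implies_true])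
  refine ⟨x, eq_of_five ?_ (card_lP none) (g := us 0 1 0) ?_ z5_mem us_ne⟩
  · exact (cardConj x _).trans (card_lP i)
  · refine ⟨us a b 0, ⟨a, b, rfl, h⟩, ?_⟩
    show x * us a b 0 * x⁻¹ = _
    rw [hx, mul_inv_cancel_right]

/-- all subgroups `lL i` are conjugate to the centre -/
theorem lL_conj (i : Option (ZMod 5)) : ∃ x : SL35, (lL i).map (MulAut.conj x).toMonoidHom = z5 := by
  obtain ⟨a, b, h, h0⟩ := on_pt i
  obtain ⟨c, d, hcd⟩ : ∃ c d : ZMod 5, c * a + d * b = 1 := by
    clear h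
    revert h0
    revert a b
    decide +kernel
  let x : SL35 := ⟨!![c, d, 0; -b, a, 0; 0, 0, 1], by rw [Matrix.det_fin_three]; simp only [_root_.Fin.isValue, _root_.Matrix.of_apply, _root_.Matrix.cons_val', _root_.Matrix.cons_val_zero, _root_.Matrix.cons_val_fin_one, _root_.Matrix.cons_val_one, _root_.Matrix.cons_val, _root_.mul_one, _root_.MulZeroClass.mul_zero, _root_.sub_zero, _root_.mul_neg, _root_.sub_neg_eq_add, _root_.add_zero, _root_.MulZeroClass.zero_mul, _root_.neg_zero]; linear_combination hcd⟩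
  have hx : x * us 0 a b = us 0 1 0 * x := by
    apply Subtype.ext
    show (!![c, d, 0; -b, a, 0; 0, 0, 1] : Matrix (Fin 3) (Fin 3) (ZMod 5)) * !![1, 0, a; 0, 1, b; 0, 0, 1] =
      !![1, 0, 1; 0, 1, 0; 0, 0, 1] * !![c, d, 0; -b, a, 0; 0, 0, 1]
    ext i j
    fin_cases i <;> fin_cases j <;> simp only [Matrix.mul_apply, Fin.sum_univ_three, _root_.Fin.zero_eta, _root_.Fin.isValue, _root_.Matrix.of_apply, _root_.Matrix.cons_val', _root_.Matrix.cons_val_fin_one, _root_.Matrix.cons_val_zero, _root_.mul_one, _root_.Matrix.cons_val_one, _root_.MulZeroClass.mul_zero, _root_.add_zero, _root_.Matrix.cons_val, _root_.one_mul, _root_.mul_neg, _root_.MulZeroClass.zero_mul, _root_.neg_zero, _root_.Fin.mk_one, _root_.zero_add, _root_.Fin.reduceFinMk, _root_.neg_mul]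
    · linear_combination hcd
    · ring
  refine ⟨x, eq_of_five ?_ (card_lP none) (g := us 0 1 0) ?_ z5_mem us_ne⟩
  · exact (cardConj x _).trans (card_lL i)
  · refine ⟨us 0 a b, ⟨a, b, rfl, h⟩, ?_⟩
    show x * us 0 a b * x⁻¹ = _
    rw [hx, mul_inv_cancel_right]

/-- the four other subgroups of order 25 are conjugate -/
theorem l2_conj {c d : ZMod 5} (hc : c ≠ 0) (hd : d ≠ 0) :
    ∃ x : SL35, (l2 (some c)).map (MulAut.conj x).toMonoidHom = l2 (some d) := by
  obtain ⟨h, hh⟩ := Cfsg.Agent.H858.L5.six_conj hc hd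
  refine ⟨h, eq_of_le_of_card_ge ?_ ?_⟩
  · rintro _ ⟨_, ⟨a, b, e, rfl, he⟩, rfl⟩
    have he' : e = c * a := he
    obtain ⟨a', b', h1⟩ := hh a b
    refine ⟨a', b', d * a', ?_, rfl⟩
    rw [he']
    exact h1
  · rw [card_l2, ← card_l2 (some c)]
    exact (cardConj h _).ge

/-! ### The action on `R` -/

section Map

variable {S G : Type*} [Group S] [Group G] {f : S →* G}

theorem unique_map (hf : Function.Injective f) {F Z : Subgroup S} {ι : Type*} {X : ι → Subgroup S}
    (hu : ∀ g ∈ F, g ∉ Z → ∃ i, g ∈ X i ∧ ∀ j, g ∈ X j → j = i) :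
    ∀ g ∈ F.map f, g ∉ Z.map f → ∃ i, g ∈ (X i).map f ∧ ∀ j, g ∈ (X j).map f → j = i := by
  rintro _ ⟨g, hg, rfl⟩ hgZ
  obtain ⟨i, hi, hi2⟩ := hu g hg (fun h => hgZ ⟨g, h, rfl⟩)
  refine ⟨i, ⟨g, hi, rfl⟩, ?_⟩
  rintro j ⟨g', hg', e⟩
  rw [hf e] at hg'
  exact hi2 j hg'

theorem card_map' (hf : Function.Injective f) (A : Subgroup S) : Nat.card (A.map f) = Nat.card A :=
  (Nat.card_congr (A.equivMapOfInjective f hf).toEquiv).symm

theorem map_conj (A : Subgroup S) (x : S) :
    (A.map (MulAut.conj x).toMonoidHom).map f = (A.map f).map (MulAut.conj (f x)).toMonoidHom := by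
  rw [Subgroup.map_map, Subgroup.map_map]
  congr 1
  ext y
  show f (x * y * x⁻¹) = f x * f y * (f x)⁻¹
  rw [map_mul, map_mul, map_inv]

end Map

theorem odd_cop {F R : ℕ} {n : ℕ} (hR : R = 2 ^ n) (hF : ¬ 2 ∣ F) : F.Coprime R := by
  rw [hR]
  exact Nat.Coprime.pow_right n ((Nat.prime_two.coprime_iff_not_dvd.2 hF).symm)

section Main

variable {f : SL35 →* G3} {R : Subgroup G3}

/-- the data of the argument -/
structure Dt (f : SL35 →* G3) (R : Subgroup G3) (d : Subgroup G3 → ℕ) : Prop where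
  inj : Function.Injective f
  norm : f.range ≤ normalizer (R : Set G3)
  two : IsPGroup 2 R
  lg : ∀ A : Subgroup G3, Nat.card ↥(R ⊓ centralizer (A : Set G3)) = 2 ^ d A

variable {d : Subgroup G3 → ℕ}

theorem Dt.map_le (D : Dt f R d) (A : Subgroup SL35) : A.map f ≤ normalizer (R : Set G3) := by
  refine le_trans ?_ D.norm
  rintro _ ⟨x, -, rfl⟩
  exact ⟨x, rfl⟩

theorem Dt.d_conj (D : Dt f R d) {A B : Subgroup SL35} {x : SL35} (h : A.map (MulAut.conj x).toMonoidHom = B) :
    d (A.map f) = d (B.map f) := by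
  have h1 := card_conj (A := A.map f) (D.norm ⟨x, rfl⟩)
  rw [← map_conj, h, D.lg, D.lg] at h1
  exact (Nat.pow_right_injective le_rfl h1).symm

theorem Dt.cop (D : Dt f R d) {F : Subgroup G3} (hF : ¬ 2 ∣ Nat.card F) : (Nat.card F).Coprime (Nat.card R) := by
  have : Fact (Nat.Prime 2) := ⟨Nat.prime_two⟩
  obtain ⟨n, hn⟩ := (IsPGroup.iff_card).1 D.two
  exact odd_cop hn hF

theorem Dt.solv (D : Dt f R d) : Group.IsSolvable R := by
  have : Fact (Nat.Prime 2) := ⟨Nat.prime_two⟩
  have h : Group.IsNilpotent R := D.two.isNilpotent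
  infer_instance

/-- Wielandt's formula in exponents -/
theorem Dt.sum_eq (D : Dt f R d) {F Z : Subgroup SL35} {X : Option (ZMod 5) → Subgroup SL35} {n : ℕ}
    (hodd : ¬ 2 ∣ Nat.card F) (hZ : ∀ i, Z ≤ X i) (hX : ∀ i, X i ≤ F) (hn : ∀ i, Nat.card (X i) = n)
    (hu : ∀ g ∈ F, g ∉ Z → ∃ i, g ∈ X i ∧ ∀ j, g ∈ X j → j = i) :
    n * ∑ i, d ((X i).map f) = Nat.card F * d (F.map f) + 5 * (Nat.card Z * d (Z.map f)) := by
  have h := wiel (R := R) (F := F.map f) (Z := Z.map f) (fun i => (X i).map f) (D.map_le F)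
    (D.cop (by rw [card_map' D.inj]; exact hodd)) D.solv (fun i => Subgroup.map_mono (hZ i))
    (fun i => Subgroup.map_mono (hX i)) (unique_map D.inj hu)
  have e : ∀ i, Nat.card ↥(R ⊓ centralizer ((X i).map f : Set G3)) ^ Nat.card ((X i).map f) =
      2 ^ (n * d ((X i).map f)) := by
    intro i
    rw [D.lg, card_map' D.inj, hn, ← pow_mul, mul_comm]
  simp only [e] at h
  rw [Finset.prod_pow_eq_pow_sum, D.lg, D.lg, card_map' D.inj, card_map' D.inj, ← pow_mul, ← pow_mul, ← pow_mul,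
    ← pow_add, ← Finset.mul_sum] at h
  have h1 := Nat.pow_right_injective le_rfl h
  rw [h1]
  ring

theorem Dt.cong (D : Dt f R d) (i : Option (ZMod 5)) : d (z5.map f) % 4 = d ((l2 i).map f) % 4 := by
  have : Fact (Nat.Prime 5) := ⟨by norm_num⟩
  apply mod_four
  rw [← D.lg, ← D.lg]
  refine cong_five (IsPGroup.of_card (n := 2) ?_) (Subgroup.map_mono (z5_le i)) ?_ (D.map_le _)
  · rw [card_map' D.inj, card_l2]
    norm_num
  · have h1 : (l2 i).map f ≤ centralizer ((z5.map f : Subgroup G3) : Set G3) := by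
      rintro _ ⟨g, hg, rfl⟩
      rw [mem_centralizer_iff]
      rintro _ ⟨z, hz, rfl⟩
      have h2 : g * z = z * g := z5_comm (l2_le i hg) hz
      rw [← map_mul, ← map_mul, h2]
    exact h1.trans (Subgroup.centralizer_le_normalizer _)

end Main

end NTw

open NTw
open Cfsg.Agent.H858.L5 (uS vP vL)

/-- **M4** -/
theorem no_two {f : SL35 →* G3} (h : GoodIn ⊤ f) (hf : Function.Injective f) {R : Subgroup G3}
    (hR : R ≠ ⊥) (h2 : ∀ x ∈ R, x ^ 2 = 1)
    (hn : f.range ≤ Subgroup.normalizer (R : Set G3)) : False := by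
  have hfin : Finite G3 := inferInstance
  have hRf : Finite R := inferInstance
  have hp : IsPGroup 2 R := fun x => ⟨1, Subtype.ext (by rw [pow_one]; exact h2 x x.2)⟩
  obtain ⟨d, hd⟩ := exists_lg hp
  have D : Dt f R d := ⟨hf, hn, hp, hd⟩
  have c25 : ¬ 2 ∣ Nat.card vP := by rw [H858.L5.card_vP]; norm_num
  have c25' : ¬ 2 ∣ Nat.card vL := by rw [H858.L5.card_vL]; norm_num
  have c125 : ¬ 2 ∣ Nat.card uS := by rw [H858.L5.card_uS]; norm_num
  -- the exponents
  obtain ⟨m, hm⟩ : ∃ m, m = d ((⊥ : Subgroup SL35).map f) := ⟨_, rfl⟩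
  obtain ⟨c, hc⟩ : ∃ c, c = d (z5.map f) := ⟨_, rfl⟩
  obtain ⟨m0, hm0⟩ : ∃ c, c = d (vP.map f) := ⟨_, rfl⟩
  obtain ⟨m1, hm1⟩ : ∃ c, c = d (vL.map f) := ⟨_, rfl⟩
  obtain ⟨a, ha⟩ : ∃ c, c = d ((l2 (some 1)).map f) := ⟨_, rfl⟩
  have hmR : Nat.card R = 2 ^ m := by
    have h1 := hd ((⊥ : Subgroup SL35).map f)
    rw [← hm] at h1
    rw [← h1]
    congr 2
    rw [Subgroup.map_bot]
    ext x
    constructor
    · intro hx
      refine ⟨hx, ?_⟩
      show x ∈ centralizer (((⊥ : Subgroup G3)) : Set G3)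
      rw [mem_centralizer_iff]
      intro y hy
      have e : y = 1 := hy
      rw [e, one_mul, mul_one]
    · intro hx
      exact hx.1
  have hs : d (uS.map f) = 0 := by
    have h1 : R ⊓ centralizer ((uS.map f : Subgroup G3) : Set G3) = ⊥ := by
      rw [eq_bot_iff]
      rintro g ⟨hg1, hg2⟩
      have hg3 : g ∈ centralizer ((uS.map f : Subgroup G3) : Set G3) := hg2
      obtain ⟨s, ⟨x, y, z, rfl⟩, e⟩ := h.centS g trivial (fun s hs => (mem_centralizer_iff.1 hg3 (f s) ⟨s, hs, rfl⟩).symm)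
      have h3 : g ^ 2 = 1 := h2 g hg1
      have h5 : g ^ 5 = 1 := by rw [e, ← map_pow, us_pow_five', map_one]
      rw [mem_bot]
      have h4 : g ^ 5 = (g ^ 2) ^ 2 * g := by rw [← pow_mul, ← pow_succ]
      rw [h5, h3, one_pow, one_mul] at h4
      exact h4.symm
    have h2 := hd (uS.map f)
    rw [h1, card_bot] at h2
    by_contra hne
    have h3 : 2 ∣ 2 ^ d (uS.map f) := dvd_pow_self 2 hne
    rw [← h2] at h3
    omega
  -- the planes
  have eP := D.sum_eq (F := vP) (Z := ⊥) (X := lP) c25 (fun i => bot_le) lP_le card_lP lP_unique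
  have eL := D.sum_eq (F := vL) (Z := ⊥) (X := lL) c25' (fun i => bot_le) lL_le card_lL lL_unique
  have eU := D.sum_eq (F := uS) (Z := z5) (X := l2) c125 z5_le l2_le card_l2 l2_unique
  have kP : ∀ i, d ((lP i).map f) = c := fun i => by
    obtain ⟨x, hx⟩ := lP_conj i
    rw [D.d_conj hx, hc]
  have kL : ∀ i, d ((lL i).map f) = c := fun i => by
    obtain ⟨x, hx⟩ := lL_conj i
    rw [D.d_conj hx, hc]
  have kU : ∀ l : ZMod 5, d ((l2 (some l)).map f) = if l = 0 then m0 else a := fun l => by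
    by_cases hl : l = 0
    · rw [if_pos hl, hl, l2_zero, hm0]
    · rw [if_neg hl]
      obtain ⟨x, hx⟩ := l2_conj hl (one_ne_zero : (1 : ZMod 5) ≠ 0)
      rw [D.d_conj hx, ha]
  have hcO : Fintype.card (Option (ZMod 5)) = 6 := rfl
  rw [Finset.sum_congr rfl fun i _ => kP i, Finset.sum_const, Finset.card_univ, hcO, H858.L5.card_vP, card_bot, ← hm0,
    ← hm, smul_eq_mul] at eP
  rw [Finset.sum_congr rfl fun i _ => kL i, Finset.sum_const, Finset.card_univ, hcO, H858.L5.card_vL, card_bot, ← hm1,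
    ← hm, smul_eq_mul] at eL
  have hsum : ∑ l : ZMod 5, (if l = 0 then m0 else a) = m0 + 4 * a := by
    show ∑ l : Fin 5, (if l = 0 then m0 else a) = m0 + 4 * a
    rw [Fin.sum_univ_five]
    simp only [_root_.Fin.isValue, ↓ _root_.reduceIte, _root_.one_ne_zero, _root_.Fin.reduceEq]
    ring
  rw [Fintype.sum_option, Finset.sum_congr rfl fun i _ => kU i, hsum, l2_none, ← hm1, hs,
    card_z5, ← hc] at eU
  have g0 := D.cong (some 0)
  have g1 := D.cong (some 1)
  rw [l2_zero, ← hm0, ← hc] at g0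
  rw [← ha, ← hc] at g1
  -- the order
  have hcard : m ≤ 25 := by
    have hd1 : ∀ x, f x ∈ R → x = 1 := by
      intro x hx
      have := H858.L5.simple_SL
      rcases (H975.L5.comap_normal hn).eq_bot_or_eq_top with h1 | h1
      · have h2 : x ∈ R.comap f := hx
        rw [h1] at h2
        exact h2
      · exfalso
        have h3 : us 0 1 0 ∈ R.comap f := by rw [h1]; trivial
        have h4 := h2 _ h3
        rw [← map_pow, ← map_one f] at h4
        have h5 := hf h4
        rw [pow_two, H858.L5.us_mul, ← H858.L5.us_zero, H858.L5.us_inj] at h5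
        exact absurd h5.2.1 (by decide)
    have h1 := H975.L5.card_mul_dvd hn hd1
    rw [hmR, H858.L5.card_SL, S1065.result (F := ZMod 3) (ZMod.card 3)] at h1
    by_contra hcon
    push Not at hcon
    have h2 : 2 ^ 31 ∣ 2 ^ m * 372000 := by
      have h3 : 2 ^ 26 ∣ 2 ^ m := pow_dvd_pow 2 hcon
      have h4 : 2 ^ 5 ∣ 372000 := by norm_num
      rw [show (2 : ℕ) ^ 31 = 2 ^ 26 * 2 ^ 5 by norm_num]
      exact Nat.mul_dvd_mul h3 h4
    have h3 := h2.trans h1
    revert h3
    norm_num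
  have hm1' : m ≠ 0 := by
    intro h0
    rw [h0, pow_zero] at hmR
    exact hR (card_eq_one.1 hmR)
  clear c25 c25' c125 hmR
  have q1 : m1 = m0 := by omega
  have q2 : c = 2 * m0 + 4 * a := by omega
  have q3 : m = 7 * m0 + 24 * a := by omega
  have q4 : a ≤ 1 := by (clear * - hm1 eL eU hcard; omega)
  have q5 : m0 ≤ 3 := by (clear * - hm1 eP eL eU hcard; omega)
  rw [q2] at g0 g1
  rw [q3] at hcard hm1'
  clear hm hc hm0 hm1 ha kP kL kU hsum eP eL eU q1 q2 q3
  interval_cases a <;> interval_cases m0 <;> omega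

end Cfsg.Agent.H857.L5
end

-- part: H857/L5/NoLarge
section
/-!
# S5923, M3: `f(SL₃(5))` normalises no nontrivial elementary abelian `r`-subgroup, `r ≥ 7` (helper857)
-/

set_option autoImplicit false
set_option linter.unusedSectionVars false

namespace Cfsg.Agent.H857.L5

open Subgroup Cfsg Cfsg.Lie Cfsg.Lie.ChevalleyDatum
open Cfsg.Agent.H865.L5

namespace NTw

open Cfsg.Agent.H858.L5 (vP)

/-- `|E₈(3)|` -/
def nE : ℕ := 18830052912953932311099032439972660332140886784940152038522449391826616580150109878711243949982163694448626420940800000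

/-- its factorization -/
def lE : List (ℕ × ℕ) := [(2, 30), (3, 120), (5, 5), (7, 4), (11, 4), (13, 4), (19, 1), (31, 1), (37, 1), (41, 2),
  (61, 2), (73, 2), (271, 1), (547, 1), (757, 1), (1093, 1), (1181, 1), (4561, 1), (6481, 1)]

theorem card_E : Nat.card G3 = nE := by
  rw [S1065.result (F := ZMod 3) (q := 3) (ZMod.card 3)]
  decide +kernel

theorem nE_eq : nE = (lE.map fun x => x.1 ^ x.2).prod := by decide +kernel

theorem not_pow_five {r : ℕ} (hr : r.Prime) (h7 : 7 ≤ r) : ¬ r ^ 5 ∣ nE := by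
  intro h5
  have h1 : r ∣ nE := (dvd_pow_self r (by norm_num)).trans h5
  rw [nE_eq, hr.prime.dvd_prod_iff] at h1
  obtain ⟨a, ha, hra⟩ := h1
  rw [List.mem_map] at ha
  obtain ⟨x, hx, rfl⟩ := ha
  have h2 : r ∣ x.1 := hr.dvd_of_dvd_pow hra
  have hs : ∀ n : ℕ, n = 2 ∨ n = 3 ∨ n = 5 → ¬ r ∣ n := by
    intro n hn hd
    have := Nat.le_of_dvd (by omega) hd
    omega
  simp only [lE, List.mem_cons, List.not_mem_nil, or_false] at hx
  rcases hx with rfl | rfl | rfl | rfl | rfl | rfl | rfl | rfl | rfl | rfl | rfl | rfl | rfl | rfl | rfl | rfl | rfl |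
    rfl | rfl
  · exact hs 2 (by simp) h2
  · exact hs 3 (by simp) h2
  · exact hs 5 (by simp) h2
  all_goals
    have h3 := (Nat.prime_dvd_prime_iff_eq hr (by norm_num)).1 h2
    subst h3
    revert h5
    decide +kernel

section Main

variable {f : SL35 →* G3} {R : Subgroup G3}

/-- the data of the argument -/
structure Dr (f : SL35 →* G3) (R : Subgroup G3) (r : ℕ) (d : Subgroup G3 → ℕ) : Prop where
  inj : Function.Injective f
  norm : f.range ≤ normalizer (R : Set G3)
  pr : r.Prime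
  two : IsPGroup r R
  lg : ∀ A : Subgroup G3, Nat.card ↥(R ⊓ centralizer (A : Set G3)) = r ^ d A

variable {r : ℕ} {d : Subgroup G3 → ℕ}

theorem Dr.map_le (D : Dr f R r d) (A : Subgroup SL35) : A.map f ≤ normalizer (R : Set G3) := by
  refine le_trans ?_ D.norm
  rintro _ ⟨x, -, rfl⟩
  exact ⟨x, rfl⟩

theorem Dr.d_conj (D : Dr f R r d) {A B : Subgroup SL35} {x : SL35} (h : A.map (MulAut.conj x).toMonoidHom = B) :
    d (A.map f) = d (B.map f) := by
  have h1 := card_conj (A := A.map f) (D.norm ⟨x, rfl⟩)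
  rw [← map_conj, h, D.lg, D.lg] at h1
  exact (Nat.pow_right_injective D.pr.two_le h1).symm

theorem Dr.cop (D : Dr f R r d) {F : Subgroup G3} (hF : ¬ r ∣ Nat.card F) : (Nat.card F).Coprime (Nat.card R) := by
  have : Fact (Nat.Prime r) := ⟨D.pr⟩
  obtain ⟨n, hn⟩ := (IsPGroup.iff_card).1 D.two
  rw [hn]
  exact Nat.Coprime.pow_right n ((D.pr.coprime_iff_not_dvd.2 hF).symm)

theorem Dr.solv (D : Dr f R r d) : Group.IsSolvable R := by
  have : Fact (Nat.Prime r) := ⟨D.pr⟩
  have h : Group.IsNilpotent R := D.two.isNilpotent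
  infer_instance

/-- Wielandt's formula in exponents -/
theorem Dr.sum_eq (D : Dr f R r d) {F Z : Subgroup SL35} {X : Option (ZMod 5) → Subgroup SL35} {n : ℕ}
    (hodd : ¬ r ∣ Nat.card F) (hZ : ∀ i, Z ≤ X i) (hX : ∀ i, X i ≤ F) (hn : ∀ i, Nat.card (X i) = n)
    (hu : ∀ g ∈ F, g ∉ Z → ∃ i, g ∈ X i ∧ ∀ j, g ∈ X j → j = i) :
    n * ∑ i, d ((X i).map f) = Nat.card F * d (F.map f) + 5 * (Nat.card Z * d (Z.map f)) := by
  have h := wiel (R := R) (F := F.map f) (Z := Z.map f) (fun i => (X i).map f) (D.map_le F)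
    (D.cop (by rw [card_map' D.inj]; exact hodd)) D.solv (fun i => Subgroup.map_mono (hZ i))
    (fun i => Subgroup.map_mono (hX i)) (unique_map D.inj hu)
  have e : ∀ i, Nat.card ↥(R ⊓ centralizer ((X i).map f : Set G3)) ^ Nat.card ((X i).map f) =
      r ^ (n * d ((X i).map f)) := by
    intro i
    rw [D.lg, card_map' D.inj, hn, ← pow_mul, mul_comm]
  simp only [e] at h
  rw [Finset.prod_pow_eq_pow_sum, D.lg, D.lg, card_map' D.inj, card_map' D.inj, ← pow_mul, ← pow_mul, ← pow_mul,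
    ← pow_add, ← Finset.mul_sum] at h
  have h1 := Nat.pow_right_injective D.pr.two_le h
  rw [h1]
  ring

end Main

end NTw

open NTw
open Cfsg.Agent.H858.L5 (vP)

/-- **M3** -/
theorem no_large {f : SL35 →* G3} (h : GoodIn ⊤ f) (hf : Function.Injective f) {R : Subgroup G3}
    (hR : R ≠ ⊥) {r : ℕ} (hr : r.Prime) (h7 : 7 ≤ r) (h5 : ∀ x ∈ R, x ^ r = 1)
    (_hab : ∀ x ∈ R, ∀ y ∈ R, x * y = y * x)
    (hn : f.range ≤ Subgroup.normalizer (R : Set G3)) : False := by
  have hfin : Finite G3 := inferInstance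
  have hRf : Finite R := inferInstance
  have : Fact r.Prime := ⟨hr⟩
  have hp : IsPGroup r R := fun x => ⟨1, Subtype.ext (by rw [pow_one]; exact h5 x x.2)⟩
  have hlg : ∀ A : Subgroup G3, ∃ n, Nat.card ↥(R ⊓ centralizer (A : Set G3)) = r ^ n := fun A =>
    (IsPGroup.iff_card).1 (hp.to_le inf_le_left)
  choose d hd using hlg
  have D : Dr f R r d := ⟨hf, hn, hr, hp, hd⟩
  have c25 : ¬ r ∣ Nat.card vP := by
    rw [H858.L5.card_vP]
    intro h25
    have h1 : r ∣ 5 := hr.dvd_of_dvd_pow (n := 2) (by norm_num; exact h25)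
    have := Nat.le_of_dvd (by norm_num) h1
    omega
  obtain ⟨m, hm⟩ : ∃ m, m = d ((⊥ : Subgroup SL35).map f) := ⟨_, rfl⟩
  obtain ⟨c, hc⟩ : ∃ c, c = d (z5.map f) := ⟨_, rfl⟩
  obtain ⟨m0, hm0⟩ : ∃ c, c = d (vP.map f) := ⟨_, rfl⟩
  have hmR : Nat.card R = r ^ m := by
    have h1 := hd ((⊥ : Subgroup SL35).map f)
    rw [← hm] at h1
    rw [← h1]
    congr 2
    rw [Subgroup.map_bot]
    ext x
    constructor
    · intro hx
      refine ⟨hx, ?_⟩
      show x ∈ centralizer (((⊥ : Subgroup G3)) : Set G3)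
      rw [mem_centralizer_iff]
      intro y hy
      have e : y = 1 := hy
      rw [e, one_mul, mul_one]
    · intro hx
      exact hx.1
  have hm4 : m ≤ 4 := by
    by_contra hcon
    have h1 : r ^ 5 ∣ nE := by
      rw [← card_E]
      refine dvd_trans ?_ (Subgroup.card_subgroup_dvd_card R)
      rw [hmR]
      exact pow_dvd_pow r (by omega)
    exact not_pow_five hr h7 h1
  have eP := D.sum_eq (F := vP) (Z := ⊥) (X := lP) c25 (fun i => bot_le) lP_le card_lP lP_unique
  have kP : ∀ i, d ((lP i).map f) = c := fun i => by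
    obtain ⟨x, hx⟩ := lP_conj i
    rw [D.d_conj hx, hc]
  have hcO : Fintype.card (Option (ZMod 5)) = 6 := rfl
  rw [Finset.sum_congr rfl fun i _ => kP i, Finset.sum_const, Finset.card_univ, hcO, H858.L5.card_vP, card_bot, ← hm0,
    ← hm, smul_eq_mul] at eP
  have hmono : m0 ≤ m := by
    have h1 : R ⊓ centralizer ((vP.map f : Subgroup G3) : Set G3) ≤ R := inf_le_left
    have h2 := card_dvd_of_le h1
    rw [hd, ← hm0, hmR] at h2
    exact (Nat.pow_dvd_pow_iff_le_right hr.one_lt).1 h2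
  have hmm : m0 = m := by omega
  -- `f(VP)` centralises `R`
  have hRP : R ⊓ centralizer ((vP.map f : Subgroup G3) : Set G3) = R := by
    refine eq_of_le_of_card_ge inf_le_left ?_
    rw [hd, ← hm0, hmm, hmR]
  have hker : ((Subgroup.centralizer (R : Set G3)).comap f).Normal := by
    refine ⟨fun x hx y => ?_⟩
    rw [mem_comap] at hx ⊢
    rw [mem_centralizer_iff] at hx ⊢
    intro z hz
    have h1 : (f y)⁻¹ * z * f y ∈ R := (mem_normalizer_iff''.1 (hn ⟨y, rfl⟩) z).1 hz
    have h2 := hx _ h1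
    rw [map_mul, map_mul, map_inv]
    calc z * (f y * f x * (f y)⁻¹) = f y * ((f y)⁻¹ * z * f y * f x) * (f y)⁻¹ := by group
      _ = f y * f x * (f y)⁻¹ * z := by rw [h2]; group
  have hsimple := H858.L5.simple_SL
  rcases hker.eq_bot_or_eq_top with h1 | h1
  · have h2 : us 0 1 0 ∈ (Subgroup.centralizer (R : Set G3)).comap f := by
      rw [mem_comap, mem_centralizer_iff]
      intro z hz
      have h3 : z ∈ R ⊓ centralizer ((vP.map f : Subgroup G3) : Set G3) := by rw [hRP]; exact hz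
      have h4 : z ∈ centralizer ((vP.map f : Subgroup G3) : Set G3) := h3.2
      exact (mem_centralizer_iff.1 h4 (f (us 0 1 0)) ⟨_, lP_le none z5_mem, rfl⟩).symm
    rw [h1, mem_bot] at h2
    exact us_ne h2
  · apply hR
    rw [eq_bot_iff]
    intro g hg
    have hg3 : ∀ x, g * f x = f x * g := by
      intro x
      have h2 : x ∈ (Subgroup.centralizer (R : Set G3)).comap f := by rw [h1]; exact mem_top x
      rw [mem_comap, mem_centralizer_iff] at h2
      exact h2 g hg
    obtain ⟨s, ⟨x, y, z, rfl⟩, e⟩ := h.centS g trivial (fun s hs => hg3 s)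
    have h3 : g ^ r = 1 := h5 g hg
    have h6 : g ^ 5 = 1 := by rw [e, ← map_pow, us_pow_five', map_one]
    rw [mem_bot]
    have h8 : orderOf g ∣ r := orderOf_dvd_of_pow_eq_one h3
    have h9 : orderOf g ∣ 5 := orderOf_dvd_of_pow_eq_one h6
    rw [← orderOf_eq_one_iff]
    rcases (Nat.dvd_prime hr).1 h8 with h10 | h10
    · exact h10
    · rw [h10] at h9
      have := Nat.le_of_dvd (by norm_num) h9
      omega

end Cfsg.Agent.H857.L5
end

private theorem dce_2d5f4b232a9d : _root_.True := by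
  try have : _root_.True := by simp only [_root_.Cfsg.Agent.H857.L5.NTw.lE.eq_1]
  exact _root_.True.intro
end

-- part: H848/L5/Gen
section
set_option linter.all false
open scoped Cfsg.Agent.FastGrp

/-!
# S5923 / S5924, piece M5, abstract part (helper848): a minimal normal subgroup of an overgroup of a simple group is simple
-/

set_option autoImplicit false

namespace Cfsg.Agent.H848.L5

open Subgroup Cfsg Cfsg.Agent.H584.NC

universe u

/-- a homomorphism from a nonsolvable simple group to a solvable group is trivial -/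
theorem hom_solvable {X S : Type*} [Group X] [IsSimpleGroup X] [Group S] (hna : ¬ Group.IsSolvable X)
    (hS : Group.IsSolvable S) (φ : X →* S) (x : X) : φ x = 1 := by
  have hn : φ.ker.Normal := inferInstance
  rcases hn.eq_bot_or_eq_top with h | h
  · exact absurd (Group.isSolvable_of_isSolvable_injective ((MonoidHom.ker_eq_bot_iff φ).1 h)) hna
  · have : x ∈ φ.ker := by rw [h]; trivial
    exact this

/-- the index of a proper subgroup -/
theorem le_index {X : Type*} [Group X] [Finite X] [IsSimpleGroup X] (H : Subgroup X) (hH : H ≠ ⊤) {p : ℕ}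
    (hp : p.Prime) (hpX : p ∣ Nat.card X) : p ≤ H.index := by
  have h1 : H.normalCore = ⊥ := by
    rcases (inferInstance : H.normalCore.Normal).eq_bot_or_eq_top with h | h
    · exact h
    · exact absurd (top_le_iff.1 (h ▸ H.normalCore_le)) hH
  have h2 : Function.Injective (MulAction.toPermHom X (X ⧸ H)) := by
    rw [← MonoidHom.ker_eq_bot_iff, ← Subgroup.normalCore_eq_ker, h1]
  have h3 : Nat.card X ∣ Nat.card (Equiv.Perm (X ⧸ H)) := Subgroup.card_dvd_of_injective _ h2
  rw [Nat.card_perm] at h3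
  exact (hp.dvd_factorial).1 (hpX.trans h3)

/-- a simple group acting on a simple group whose order is prime to `p` -/
theorem cent_of_coprime {G : Type u} [Group G] [Finite G] (X T : Subgroup G) (hSch : Group.IsSolvable (Out T))
    (hX : IsSimpleGroup X) (hXs : ¬ Group.IsSolvable X) (hn : X ≤ normalizer (T : Set G)) {p : ℕ}
    (hpX : p ∣ Nat.card X) (hpT : ¬ p ∣ Nat.card T) : ∀ x ∈ X, ∀ t ∈ T, x * t = t * x := by
  let φ : X →* MulAut T := T.normalizerMonoidHom.comp (inclusion hn)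
  have hφ : ∀ (x : X) (t : T), ((φ x t : T) : G) = x * t * (x : G)⁻¹ := fun x t => rfl
  have h1 : ∀ x, φ x ∈ Inn T := by
    intro x
    have h2 := hom_solvable hXs hSch ((QuotientGroup.mk' (Inn T)).comp φ) x
    rw [MonoidHom.comp_apply, QuotientGroup.mk'_apply, QuotientGroup.eq_one_iff] at h2
    exact h2
  have hN : φ.ker.Normal := inferInstance
  have h3 : φ.ker = ⊤ := by
    rcases hN.eq_bot_or_eq_top with h | h
    · exfalso
      have hinj := (MonoidHom.ker_eq_bot_iff φ).1 h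
      have h4 : Nat.card X ∣ Nat.card (Inn T) :=
        Subgroup.card_dvd_of_injective (φ.codRestrict (Inn T) h1) fun a b hab =>
          hinj (congrArg Subtype.val hab)
      have h5 : Nat.card (Inn T) ∣ Nat.card T := Subgroup.card_range_dvd (MulAut.conj : T →* MulAut T)
      exact hpT ((hpX.trans h4).trans h5)
    · exact h
  intro x hx t ht
  have h4 : (⟨x, hx⟩ : X) ∈ φ.ker := by rw [h3]; trivial
  have h5 : φ ⟨x, hx⟩ = 1 := h4
  have h6 := hφ ⟨x, hx⟩ ⟨t, ht⟩
  rw [h5] at h6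
  have h7 : t = x * t * x⁻¹ := h6
  exact (eq_mul_inv_iff_mul_eq.1 h7).symm

section Cmp

variable {M : Type*} [Group M] [Finite M] {N : Subgroup M} {C : Set (Subgroup M)}

theorem card_eq_prod (h : Cmp N C) [Fintype C] : Nat.card N = ∏ T : C, Nat.card (T : Subgroup M) := by
  obtain ⟨e⟩ := Lib.MinNormal.mulEquiv_pi_of_iSupIndep (K := N) (fun S : C => (S : Subgroup M))
      (fun S S' hne x y hx hy => h.comm S S.2 S' S'.2 (fun h => hne (Subtype.ext h)) x hx y hy)
      ((sSupIndep_iff _).mp h.indep) (by rw [← sSup_eq_iSup']; exact h.sup)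
  rw [Nat.card_congr e.toEquiv, Nat.card_pi]

omit [Finite M] in
theorem card_eq (h : Cmp N C) {S T : Subgroup M} (hS : S ∈ C) (hT : T ∈ C) : Nat.card S = Nat.card T := by
  obtain ⟨g, rfl⟩ := h.trans S hS T hT
  rw [Subgroup.card_map_of_injective (MulAut.conj g).injective]

theorem pow_dvd (h : Cmp N C) {r : ℕ} (hr : ∀ T ∈ C, r ∣ Nat.card T) : r ^ Nat.card C ∣ Nat.card N := by
  have := Fintype.ofFinite C
  rw [card_eq_prod h, Nat.card_eq_fintype_card]
  have h1 : r ^ Fintype.card C = ∏ _T : C, r := by rw [Finset.prod_const, Finset.card_univ]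
  rw [h1]
  exact Finset.prod_dvd_prod_of_dvd _ _ fun T _ => hr T T.2

theorem exists_dvd (h : Cmp N C) {p : ℕ} (hp : p.Prime) (hd : p ∣ Nat.card N) : ∀ T ∈ C, p ∣ Nat.card T := by
  have := Fintype.ofFinite C
  rw [card_eq_prod h, Prime.dvd_finsetProd_iff hp.prime] at hd
  obtain ⟨S, -, hS⟩ := hd
  intro T hT
  rw [card_eq h hT S.2]
  exact hS

/-- the conjugates of a component under a subgroup -/
theorem le_normalizer_of (h : Cmp N C) (X : Subgroup M) (hX : IsSimpleGroup X) {p : ℕ} (hp : p.Prime)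
    (hpX : p ∣ Nat.card X) (hC : Nat.card C < p) {T : Subgroup M} (hT : T ∈ C) : X ≤ normalizer (T : Set M) := by
  by_contra hcon
  have h1 : (normalizer (T : Set M)).subgroupOf X ≠ ⊤ := by
    intro h1
    rw [subgroupOf_eq_top] at h1
    exact hcon h1
  have h2 := le_index _ h1 hp hpX
  have h3 : ((normalizer (T : Set M)).subgroupOf X).index ≤ Nat.card C := by
    let F : (X ⧸ (normalizer (T : Set M)).subgroupOf X) → C := fun c =>
      ⟨T.map (MulAut.conj ((c.out : X) : M)).toMonoidHom, h.conj T hT _⟩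
    have hF : Function.Injective F := by
      intro a b hab
      have h4 : T.map (MulAut.conj ((a.out : X) : M)).toMonoidHom = T.map (MulAut.conj ((b.out : X) : M)).toMonoidHom :=
        congrArg Subtype.val hab
      have h5 : ((a.out : X) : M)⁻¹ * ((b.out : X) : M) ∈ normalizer (T : Set M) := by
        apply h.mem_normalizer_of_map
        have h6 : T.map (MulAut.conj (((a.out : X) : M)⁻¹ * ((b.out : X) : M))).toMonoidHom =
            (T.map (MulAut.conj ((b.out : X) : M)).toMonoidHom).map (MulAut.conj (((a.out : X) : M)⁻¹)).toMonoidHom := by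
          rw [Subgroup.map_map]
          congr 1
          rw [map_mul]
          rfl
        rw [h6, ← h4, Subgroup.map_map]
        have h7 : (MulAut.conj (((a.out : X) : M)⁻¹)).toMonoidHom.comp (MulAut.conj ((a.out : X) : M)).toMonoidHom =
            MonoidHom.id M := by
          ext y
          simp [MulAut.conj_apply, mul_assoc]
        rw [h7, Subgroup.map_id]
      have h8 : (a.out)⁻¹ * b.out ∈ (normalizer (T : Set M)).subgroupOf X := by
        rw [mem_subgroupOf]
        exact h5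
      have h9 := QuotientGroup.eq.2 h8
      rwa [QuotientGroup.out_eq', QuotientGroup.out_eq'] at h9
    exact Nat.card_le_card_of_injective F hF
  omega

end Cmp

theorem isSimple_map {G : Type*} [Group G] {M : Subgroup G} {T : Subgroup M} (hT : IsSimpleGroup T) :
    IsSimpleGroup (T.map M.subtype) :=
  (T.equivMapOfInjective M.subtype M.subtype_injective).symm.isSimpleGroup

/-- **The abstract form of M5.** -/
theorem exists_simple_gen
    (hSch : ∀ (T : Type u) [Group T] [Finite T] [IsSimpleGroup T], Group.IsSolvable (Out T))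
    (hFT : ∀ (T : Type u) [Group T] [Finite T], Odd (Nat.card T) → Group.IsSolvable T)
    {G : Type u} [Group G] [Finite G] (X M : Subgroup G) (hXM : X ≤ M) (hX : IsSimpleGroup X)
    (hXs : ¬ Group.IsSolvable X) {p : ℕ} (hp : p.Prime) (hpX : p ∣ Nat.card X) (hp2 : ¬ p ^ 2 ∣ Nat.card G)
    (h2 : ¬ 2 ^ p ∣ Nat.card G) (hC : centralizer (X : Set G) = ⊥)
    (hab : ∀ (R : Subgroup G) (r : ℕ), r.Prime → R ≠ ⊥ → (∀ x ∈ R, x ^ r = 1) →
      (∀ x ∈ R, ∀ y ∈ R, x * y = y * x) → X ≤ normalizer (R : Set G) → False) :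
    ∃ T : Subgroup G, T ≤ M ∧ M ≤ normalizer (T : Set G) ∧ IsSimpleGroup T ∧ X ≤ T := by
  have hXn : X ≠ ⊥ := by
    intro h
    rw [h, Subgroup.card_bot] at hpX
    exact hp.one_lt.ne' (Nat.dvd_one.1 hpX)
  have hMt : (⊤ : Subgroup M) ≠ ⊥ := by
    intro h
    apply hXn
    rw [eq_bot_iff]
    intro x hx
    have h1 : (⟨x, hXM hx⟩ : M) ∈ (⊤ : Subgroup M) := trivial
    rw [h, mem_bot] at h1
    exact congrArg Subtype.val h1
  obtain ⟨N, hN, -, hNb, hmin⟩ := exists_minimal_normal (G := M) ⊤ inferInstance hMt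
  -- the image of a normal subgroup
  have hnorm : ∀ K : Subgroup M, K.Normal → M ≤ normalizer ((K.map M.subtype : Subgroup G) : Set G) := by
    intro K hK
    have h1 := Subgroup.le_normalizer_map (H := K) M.subtype
    rw [Subgroup.normalizer_eq_top_iff.2 hK] at h1
    intro x hx
    exact h1 ⟨⟨x, hx⟩, trivial, rfl⟩
  have hcd : ∀ K : Subgroup M, Nat.card K ∣ Nat.card G := fun K =>
    (Subgroup.card_subgroup_dvd_card K).trans (Subgroup.card_subgroup_dvd_card M)
  have hna : ¬ ∀ x ∈ N, ∀ y ∈ N, x * y = y * x := by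
    intro hcomm
    obtain ⟨r, hr, hr1⟩ := SolvableStructure.MinimalNormal.exists_prime_pow_eq_one N hNb hmin hcomm
    refine hab (N.map M.subtype) r hr ?_ ?_ ?_ (hXM.trans (hnorm N hN))
    · intro h
      rw [Subgroup.map_eq_bot_iff_of_injective _ M.subtype_injective] at h
      exact hNb h
    · rintro _ ⟨x, hx, rfl⟩
      rw [← map_pow, hr1 x hx, map_one]
    · rintro _ ⟨x, hx, rfl⟩ _ ⟨y, hy, rfl⟩
      rw [← map_mul, hcomm x hx y hy, map_mul]
  have h := Cmp.of_minimal N hN hmin hna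
  set C := Lib.MinNormalNonabelian.minSet N with hCdef
  -- `X` in `M`
  set X' : Subgroup M := X.subgroupOf M with hX'
  have eX : X' ≃* X := subgroupOfEquivOfLe hXM
  have hXsimple : IsSimpleGroup X' := eX.isSimpleGroup
  have hX's : ¬ Group.IsSolvable X' := fun h' => hXs (Group.isSolvable_of_isSolvable_injective (f := eX.symm.toMonoidHom) eX.symm.injective)
  have hpX' : p ∣ Nat.card X' := by rwa [Nat.card_congr eX.toEquiv]
  have hcase : (N.subgroupOf X') = ⊥ ∨ (N.subgroupOf X') = ⊤ :=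
    (inferInstance : (N.subgroupOf X').Normal).eq_bot_or_eq_top
  rcases hcase with hb | ht
  · exfalso
    -- `p` does not divide `|N|`
    have hdis : X' ⊓ N = ⊥ := by
      rw [inf_comm]
      rw [subgroupOf_eq_bot] at hb
      exact disjoint_iff.1 hb
    have hcard : Nat.card X' * Nat.card N ∣ Nat.card M := by
      have h1 : Nat.card X' ∣ Nat.card (M ⧸ N) := by
        refine Subgroup.card_dvd_of_injective ((QuotientGroup.mk' N).comp X'.subtype) ?_
        rw [injective_iff_map_eq_one]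
        intro x hx
        rw [MonoidHom.comp_apply, QuotientGroup.mk'_apply, QuotientGroup.eq_one_iff] at hx
        have h2 : (x : M) ∈ X' ⊓ N := ⟨x.2, hx⟩
        rw [hdis, mem_bot] at h2
        exact Subtype.ext h2
      rw [Subgroup.card_eq_card_quotient_mul_card_subgroup N]
      exact Nat.mul_dvd_mul_right h1 _
    have hpN : ¬ p ∣ Nat.card N := by
      intro hd
      apply hp2
      have h1 : p ^ 2 ∣ Nat.card X' * Nat.card N := by
        rw [pow_two]
        exact mul_dvd_mul hpX' hd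
      exact (h1.trans hcard).trans (Subgroup.card_subgroup_dvd_card M)
    have heven : ∀ T ∈ C, 2 ∣ Nat.card T := by
      intro T hT
      by_contra hodd
      have h1 : Odd (Nat.card T) := by
        rw [← Nat.not_even_iff_odd, even_iff_two_dvd]
        exact hodd
      exact h.nonsol hT (hFT _ h1)
    have hCp : Nat.card C < p := by
      by_contra hge
      push Not at hge
      exact h2 ((pow_dvd_pow 2 hge).trans ((pow_dvd h heven).trans (hcd N)))
    have hcen : ∀ x ∈ X', ∀ T ∈ C, ∀ t ∈ T, x * t = t * x := by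
      intro x hx T hT t ht
      have hTs := h.simple T hT
      refine cent_of_coprime X' T (hSch _) hXsimple hX's
        (le_normalizer_of h X' hXsimple hp hpX' hCp hT) hpX' ?_ x hx t ht
      intro hd
      exact hpN (hd.trans (Subgroup.card_dvd_of_le (h.le T hT)))
    apply hNb
    rw [eq_bot_iff]
    intro n hn
    rw [mem_bot]
    have h1 : (n : G) ∈ centralizer (X : Set G) := by
      rw [Subgroup.mem_centralizer_iff]
      intro x hx
      have h2 := h.mem_centralizer (x := ⟨x, hXM hx⟩) (hcen ⟨x, hXM hx⟩ (by rw [hX', mem_subgroupOf]; exact hx))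
      rw [Subgroup.mem_centralizer_iff] at h2
      exact (congrArg Subtype.val (h2 n hn)).symm
    rw [hC, mem_bot] at h1
    exact Subtype.ext h1
  · -- `X ≤ N`
    rw [subgroupOf_eq_top] at ht
    have hpN : p ∣ Nat.card N := hpX'.trans (Subgroup.card_dvd_of_le ht)
    have h1 := pow_dvd h (exists_dvd h hp hpN)
    have h3 : Nat.card C ≤ 1 := by
      by_contra hge
      push Not at hge
      exact hp2 ((pow_dvd_pow p hge).trans (h1.trans (hcd N)))
    obtain ⟨T, hT⟩ := h.nonempty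
    have hCT : C = {T} := by
      have : Finite C := inferInstance
      have h4 : Subsingleton C := Finite.card_le_one_iff_subsingleton.1 h3
      ext S
      rw [Set.mem_singleton_iff]
      constructor
      · intro hS
        exact congrArg Subtype.val (Subsingleton.elim (⟨S, hS⟩ : C) ⟨T, hT⟩)
      · rintro rfl
        exact hT
    have hNT : N = T := by
      rw [← h.sup, hCT, sSup_singleton]
    refine ⟨N.map M.subtype, Subgroup.map_subtype_le N, hnorm N hN, isSimple_map ?_, ?_⟩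
    · rw [hNT]
      exact h.simple T hT
    · intro x hx
      exact ⟨⟨x, hXM hx⟩, ht (by rw [hX', mem_subgroupOf]; exact hx), rfl⟩

end Cfsg.Agent.H848.L5
end

-- part: H513/L5/ThC
section
set_option linter.all false
open scoped Cfsg.Agent.FastGrp

/-!
# S5923 (M7): the local argument (helper513)
-/

set_option autoImplicit false
set_option linter.unusedSectionVars false

namespace Cfsg.Agent.H513.L5.ThC

open Subgroup Cfsg.Agent.H49.ThFive Cfsg.Agent.H865.L5 Cfsg.Agent.H513.L5.ThA Cfsg.Agent.H513.L5.ThB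

universe u

/-- `US` as a subgroup -/
def USs : Subgroup SL35 where
  carrier := {g | ∃ a b c, g = us a b c}
  one_mem' := ⟨0, 0, 0, us_one.symm⟩
  mul_mem' := by
    rintro _ _ ⟨a, b, c, rfl⟩ ⟨a', b', c', rfl⟩
    exact ⟨_, _, _, us_mul _ _ _ _ _ _⟩
  inv_mem' := by
    rintro _ ⟨a, b, c, rfl⟩
    refine ⟨-a, a * c - b, -c, ?_⟩
    rw [inv_eq_iff_mul_eq_one, us_mul, ← us_one]
    congr 1 <;> ring

theorem card_USs : Nat.card USs = 125 := by
  have e : (ZMod 5 × ZMod 5 × ZMod 5) ≃ USs :=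
    Equiv.ofBijective (fun p => ⟨us p.1 p.2.1 p.2.2, p.1, p.2.1, p.2.2, rfl⟩) ⟨by
      rintro ⟨a, b, c⟩ ⟨a', b', c'⟩ h
      obtain ⟨h1, h2, h3⟩ := us_inj (congrArg Subtype.val h)
      simp only at h1 h2 h3
      rw [h1, h2, h3], by
      rintro ⟨_, a, b, c, rfl⟩
      exact ⟨(a, b, c), rfl⟩⟩
  rw [← Nat.card_congr e]
  simp

theorem us_pow (a b : ZMod 5) (n : ℕ) : (us a b 0) ^ n = us (n * a) (n * b) 0 := by
  induction n with
  | zero => simp [us_one]
  | succ n ih =>
    rw [pow_succ, ih, us_mul]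
    congr 1 <;> push_cast <;> ring

theorem us_split (s t : ZMod 5) : us s t 0 = (us 1 0 0) ^ s.val * (us 0 1 0) ^ t.val := by
  rw [us_pow, us_pow, us_mul]
  simp

theorem us_order : orderOf (us 0 1 0) = 5 := by
  apply orderOf_eq_prime
  · rw [us_pow, ← us_one]
    congr 1
  · rw [Ne, ← us_one]
    intro h
    have := (us_inj h).2.1
    exact absurd this (by decide)

section

variable {K : Type u} [Group K] {f : SL35 →* K} (hf : Function.Injective f)

include hf

/-- the normalizer of `VP` -/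
theorem NP (hC : ∀ g : K, (∀ s t, g * f (us s t 0) = f (us s t 0) * g) → ∃ x, g = f x) {n : K}
    (hn : ∀ s t, ∃ s' t', n * f (us s t 0) * n⁻¹ = f (us s' t' 0)) : ∃ x, n = f x := by
  obtain ⟨a, b, h1⟩ := hn 1 0
  obtain ⟨c, d, h2⟩ := hn 0 1
  have h3 : ∀ s t, n * f (us s t 0) * n⁻¹ = f (us (s * a + t * c) (s * b + t * d) 0) := by
    intro s t
    have e : n * f (us s t 0) * n⁻¹ = (n * f (us 1 0 0) * n⁻¹) ^ s.val * (n * f (us 0 1 0) * n⁻¹) ^ t.val := by
      rw [conj_pow, conj_pow, us_split s t, map_mul, map_pow, map_pow]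
      group
    rw [e, h1, h2, ← map_pow, ← map_pow, ← map_mul, us_pow, us_pow, us_mul]
    congr 2
    · simp
    · simp
      ring
  have h0 : ∀ s t, us (s * a + t * c) (s * b + t * d) 0 = us 0 0 0 → s = 0 ∧ t = 0 := by
    intro s t e
    have h4 := h3 s t
    rw [e, us_one, map_one, mul_inv_eq_one] at h4
    have h5 : f (us s t 0) = 1 := by
      calc f (us s t 0) = n⁻¹ * (n * f (us s t 0)) := by group
        _ = n⁻¹ * n := by rw [h4]
        _ = 1 := by group
    have h6 : us s t 0 = us 0 0 0 := by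
      rw [us_one]
      exact hf (by rw [h5, map_one])
    exact ⟨(us_inj h6).1, (us_inj h6).2.1⟩
  have hD : a * d - b * c ≠ 0 := by
    intro hD
    have k1 := h0 d (-b) (by
      congr 1
      · linear_combination hD
      · ring)
    have k2 := h0 c (-a) (by
      congr 1
      · ring
      · linear_combination (-1) * hD)
    have hb : b = 0 := neg_eq_zero.1 k1.2
    have ha : a = 0 := neg_eq_zero.1 k2.2
    have k3 := h0 1 0 (by rw [ha, hb]; congr 1 <;> ring)
    exact absurd k3.1 (by decide)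
  have h4 : ∃ x, (f (pm a b c d hD))⁻¹ * n = f x := by
    apply hC
    intro s t
    have k1 : n * f (us s t 0) = f (us (s * a + t * c) (s * b + t * d) 0) * n := by
      rw [← h3 s t]
      group
    have k2 : f (pm a b c d hD) * f (us s t 0) = f (us (s * a + t * c) (s * b + t * d) 0) * f (pm a b c d hD) := by
      rw [← map_mul, ← map_mul, pm_mul]
    have k3 : (f (pm a b c d hD))⁻¹ * f (us (s * a + t * c) (s * b + t * d) 0) =
        f (us s t 0) * (f (pm a b c d hD))⁻¹ := by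
      rw [inv_mul_eq_iff_eq_mul, ← mul_assoc, k2, mul_assoc, mul_inv_cancel, mul_one]
    rw [mul_assoc, k1, ← mul_assoc, k3, mul_assoc]
  obtain ⟨x, hx⟩ := h4
  refine ⟨pm a b c d hD * x, ?_⟩
  rw [map_mul, ← hx]
  group

end

/-- a conjugation which maps elements of a family to elements of a family of the same size is onto -/
theorem onto {G : Type*} [Group G] {L : Type*} [Finite L] {x y : L → G} (hx : Function.Injective x) {g : G}
    (h : ∀ s, ∃ t, g * x s * g⁻¹ = y t) (t : L) : ∃ s, g * x s * g⁻¹ = y t := by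
  choose F hF using h
  have hinj : Function.Injective F := by
    intro s s' e
    apply hx
    have : g * x s * g⁻¹ = g * x s' * g⁻¹ := by rw [hF s, hF s', e]
    exact mul_left_cancel (mul_right_cancel this)
  obtain ⟨s, hs⟩ := (Finite.injective_iff_surjective.1 hinj) t
  exact ⟨s, by rw [hF s, hs]⟩

section

variable {K : Type u} [Group K] [Finite K] {x y z a : K} (D : Dat x y z a) {f : SL35 →* K}
  (hf : Function.Injective f)

theorem orderOf_c (hf : Function.Injective f) : orderOf (f (us 0 1 0)) = 5 := by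
  rw [orderOf_injective f hf, us_order]

theorem card_P (hf : Function.Injective f) : Nat.card (USs.map f) = 125 := by
  rw [Subgroup.card_map_of_injective hf, card_USs]

theorem P_comm : ∀ u ∈ USs.map f, u * f (us 0 1 0) = f (us 0 1 0) * u := by
  rintro _ ⟨_, ⟨a, b, c, rfl⟩, rfl⟩
  rw [← map_mul, ← map_mul, us_mul, us_mul]
  congr 2 <;> ring

include D hf

/-- the centralizer of `us 0 1 0` normalizes `US` -/
theorem norm_US {g : K} (hg : g * f (us 0 1 0) = f (us 0 1 0) * g) (a b c : ZMod 5) :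
    ∃ a' b' c', g * f (us a b c) * g⁻¹ = f (us a' b' c') := by
  obtain ⟨_, ⟨a', b', c', rfl⟩, h⟩ := norm_of_cent D (orderOf_c hf) (card_P hf) P_comm hg
    (u := f (us a b c)) ⟨_, ⟨a, b, c, rfl⟩, rfl⟩
  exact ⟨a', b', c', h.symm⟩

theorem f_pow (hf : Function.Injective f) {g : K} (hg : g ∈ USs.map f) : g ^ 125 = 1 := by
  rw [← card_P hf]
  have := pow_card_eq_one' (x := (⟨g, hg⟩ : ↥(USs.map f)))
  exact congrArg Subtype.val this

/-- no elements of order prime to 5 in the centralizer of `VP` -/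
theorem no_r (hS : ∀ g : K, (∀ a b c, g * f (us a b c) = f (us a b c) * g) → g ∈ USs.map f)
    (hV : ∀ g h : K, (∀ s t, g * f (us s t 0) = f (us s t 0) * g) → (∀ s t, h * f (us s t 0) = f (us s t 0) * h) →
      g * h = h * g) {r : ℕ} (hr : r.Prime) (h5 : r ≠ 5) (harith : ∀ k, r ^ k ∣ 3000 → r ^ k % 5 = 1 → r ^ k = 1)
    {g : K} (hg : ∀ s t, g * f (us s t 0) = f (us s t 0) * g) (hgr : g ^ r = 1) : g = 1 := by
  have : Fact (Nat.Prime 5) := ⟨by norm_num⟩
  have : Fact r.Prime := ⟨hr⟩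
  let Q : Subgroup K :=
    { carrier := {g | (∀ s t, g * f (us s t 0) = f (us s t 0) * g) ∧ g ^ r = 1}
      one_mem' := ⟨fun s t => by rw [one_mul, mul_one], one_pow r⟩
      mul_mem' := by
        rintro u v ⟨hu, hu'⟩ ⟨hv, hv'⟩
        refine ⟨fun s t => ?_, ?_⟩
        · rw [mul_assoc, hv, ← mul_assoc, hu, mul_assoc]
        · rw [(show Commute u v from hV u v hu hv).mul_pow, hu', hv', one_mul]
      inv_mem' := by
        rintro u ⟨hu, hu'⟩
        refine ⟨fun s t => ?_, by rw [inv_pow, hu', inv_one]⟩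
        rw [inv_mul_eq_iff_eq_mul, ← mul_assoc, hu, mul_assoc, mul_inv_cancel, mul_one] }
  have hnorm : ∀ p ∈ USs.map f, ∀ u ∈ Q, p * u * p⁻¹ ∈ Q := by
    rintro _ ⟨_, ⟨a, b, c, rfl⟩, rfl⟩ u ⟨hu, hu'⟩
    refine ⟨fun s t => ?_, by rw [conj_pow, hu', mul_one, mul_inv_cancel]⟩
    have e1 : f (us a b c) * f (us s (t + s * c) 0) = f (us s t 0) * f (us a b c) := by
      rw [← map_mul, ← map_mul, us_mul, us_mul]
      congr 2 <;> ring
    have e2 : (f (us a b c))⁻¹ * f (us s t 0) = f (us s (t + s * c) 0) * (f (us a b c))⁻¹ := by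
      rw [inv_mul_eq_iff_eq_mul, ← mul_assoc, e1, mul_assoc, mul_inv_cancel, mul_one]
    rw [mul_assoc, e2, ← mul_assoc, mul_assoc _ u, hu, ← mul_assoc, e1]
    group
  let act : MulAction ↥(USs.map f) ↥Q :=
    { smul := fun p u => ⟨p.1 * u.1 * p.1⁻¹, hnorm p.1 p.2 u.1 u.2⟩
      one_smul := fun u => Subtype.ext (by show 1 * u.1 * 1⁻¹ = u.1; group)
      mul_smul := fun p p' u => Subtype.ext (by
        show (p.1 * p'.1) * u.1 * (p.1 * p'.1)⁻¹ = p.1 * (p'.1 * u.1 * p'.1⁻¹) * p.1⁻¹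
        group) }
  have hP5 : IsPGroup 5 ↥(USs.map f) := IsPGroup.of_card (n := 3) (by rw [card_P hf]; norm_num)
  have h1 := hP5.card_modEq_card_fixedPoints ↥Q
  have hfix : Nat.card (MulAction.fixedPoints ↥(USs.map f) ↥Q) = 1 := by
    rw [Nat.card_eq_one_iff_unique]
    refine ⟨⟨?_⟩, ⟨⟨1, fun p => Subtype.ext (by show p.1 * 1 * p.1⁻¹ = 1; group)⟩⟩⟩
    have key : ∀ u : MulAction.fixedPoints ↥(USs.map f) ↥Q, (u : ↥Q) = 1 := by
      rintro ⟨⟨u, hu, hur⟩, hfixu⟩
      have h2 : u ∈ USs.map f := by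
        apply hS
        intro a b c
        have h3 := congrArg Subtype.val (hfixu ⟨f (us a b c), ⟨_, ⟨a, b, c, rfl⟩, rfl⟩⟩)
        have h4 : f (us a b c) * u * (f (us a b c))⁻¹ = u := h3
        rw [mul_inv_eq_iff_eq_mul] at h4
        exact h4.symm
      have h3 := f_pow D hf hf h2
      have h4 : orderOf u ∣ Nat.gcd r 125 := Nat.dvd_gcd (orderOf_dvd_of_pow_eq_one hur) (orderOf_dvd_of_pow_eq_one h3)
      have h5' : Nat.Coprime r 125 := by
        rw [show (125 : ℕ) = 5 ^ 3 by norm_num]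
        exact Nat.Coprime.pow_right _ ((Nat.coprime_primes hr (by norm_num)).2 h5)
      rw [h5'] at h4
      exact Subtype.ext (orderOf_eq_one_iff.1 (Nat.dvd_one.1 h4))
    intro u v
    exact Subtype.ext ((key u).trans (key v).symm)
  rw [hfix] at h1
  have hQr : IsPGroup r ↥Q := fun u => ⟨1, Subtype.ext (by rw [pow_one]; exact u.2.2)⟩
  obtain ⟨k, hk⟩ := IsPGroup.iff_card.1 hQr
  have hle : Q ≤ centralizer ({f (us 0 1 0)} : Set K) := by
    rintro u ⟨hu, -⟩
    exact mem_centralizer_singleton_iff.2 (hu 0 1)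
  have hdvd := card_dvd_of_le hle
  rw [card_cent D (orderOf_c hf), hk] at hdvd
  have h6 := harith k hdvd (by rw [← hk]; exact h1)
  rw [← hk, Subgroup.card_eq_one] at h6
  have : g ∈ Q := ⟨hg, hgr⟩
  rw [h6] at this
  exact this

omit D hf in
theorem arith2 (k : ℕ) (hk : 2 ^ k ∣ 3000) (hm : 2 ^ k % 5 = 1) : 2 ^ k = 1 := by
  have : k ≤ 3 := by
    by_contra h
    have : 2 ^ 4 ∣ 3000 := (pow_dvd_pow 2 (by omega)).trans hk
    norm_num at this
  interval_cases k
  · rfl
  · norm_num at hm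
  · norm_num at hm
  · norm_num at hm

omit D hf in
theorem arith3 (k : ℕ) (hk : 3 ^ k ∣ 3000) (hm : 3 ^ k % 5 = 1) : 3 ^ k = 1 := by
  have : k ≤ 1 := by
    by_contra h
    have : 3 ^ 2 ∣ 3000 := (pow_dvd_pow 3 (by omega)).trans hk
    norm_num at this
  interval_cases k
  · rfl
  · norm_num at hm

/-- the centralizer of `VP` -/
theorem cent_VP (hS : ∀ g : K, (∀ a b c, g * f (us a b c) = f (us a b c) * g) → g ∈ USs.map f)
    (hV : ∀ g h : K, (∀ s t, g * f (us s t 0) = f (us s t 0) * g) → (∀ s t, h * f (us s t 0) = f (us s t 0) * h) →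
      g * h = h * g) {g : K} (hg : ∀ s t, g * f (us s t 0) = f (us s t 0) * g) : ∃ s t, g = f (us s t 0) := by
  have : Fact (Nat.Prime 5) := ⟨by norm_num⟩
  let C : Subgroup K :=
    { carrier := {g | ∀ s t, g * f (us s t 0) = f (us s t 0) * g}
      one_mem' := fun s t => by rw [one_mul, mul_one]
      mul_mem' := by
        rintro u v hu hv
        intro s t
        rw [mul_assoc, hv, ← mul_assoc, hu, mul_assoc]
      inv_mem' := by
        rintro u hu
        intro s t
        rw [inv_mul_eq_iff_eq_mul, ← mul_assoc, hu, mul_assoc, mul_inv_cancel, mul_one] }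
  have hle : C ≤ centralizer ({f (us 0 1 0)} : Set K) := by
    intro u hu
    exact mem_centralizer_singleton_iff.2 (hu 0 1)
  have hdvd := card_dvd_of_le hle
  rw [card_cent D (orderOf_c hf)] at hdvd
  have hr : ∀ r : ℕ, r.Prime → r ≠ 5 → (∀ k, r ^ k ∣ 3000 → r ^ k % 5 = 1 → r ^ k = 1) → Nat.Coprime (Nat.card C) r := by
    intro r hr h5 ha
    have : Fact r.Prime := ⟨hr⟩
    rw [Nat.coprime_comm, (Nat.Prime.coprime_iff_not_dvd hr)]
    intro hd
    obtain ⟨u, hu⟩ := exists_prime_orderOf_dvd_card' (G := C) r hd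
    have h1 : (u : K) ^ r = 1 := by
      have := pow_orderOf_eq_one u
      rw [hu] at this
      exact congrArg Subtype.val this
    have h2 := no_r D hf hS hV hr h5 ha u.2 h1
    have h3 : u = 1 := Subtype.ext h2
    rw [h3, orderOf_one] at hu
    exact hr.one_lt.ne hu
  have h2 := hr 2 (by norm_num) (by norm_num) arith2
  have h3 := hr 3 (by norm_num) (by norm_num) arith3
  have h4 : Nat.card C ∣ 5 ^ 3 := by
    have e : (3000 : ℕ) = 2 ^ 3 * (3 * 5 ^ 3) := by norm_num
    rw [e] at hdvd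
    exact h3.dvd_of_dvd_mul_left ((Nat.Coprime.pow_right 3 h2).dvd_of_dvd_mul_left hdvd)
  obtain ⟨k, -, hk⟩ := (Nat.dvd_prime_pow (by norm_num : Nat.Prime 5)).1 h4
  have h5 : IsPGroup 5 C := IsPGroup.of_card hk
  have h6 := le_of_cent D (orderOf_c hf) (card_P hf) P_comm h5 (fun u hu => hu 0 1)
  obtain ⟨_, ⟨a, b, c, rfl⟩, h7⟩ := h6 (show g ∈ C from hg)
  have h8 := hg 1 0
  rw [← h7, ← map_mul, ← map_mul, us_mul, us_mul] at h8
  obtain ⟨-, e2, -⟩ := us_inj (hf h8)
  have hc : c = 0 := by linear_combination -e2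
  subst hc
  exact ⟨a, b, h7.symm⟩

end

end Cfsg.Agent.H513.L5.ThC

private theorem dce_557405fd03c9 : _root_.True := by
  try have : _root_.True := by simp only [_root_.Cfsg.Agent.H513.L5.ThB.pm.congr_simp]
  exact _root_.True.intro
end

-- part: H513/L5/ThD
section
set_option linter.all false
open scoped Cfsg.Agent.FastGrp

/-!
# S5923 (M7): the local argument, end (helper513)
-/

set_option autoImplicit false
set_option linter.unusedSectionVars false

namespace Cfsg.Agent.H513.L5.ThC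

open Subgroup Cfsg.Agent.H49.ThFive Cfsg.Agent.H865.L5 Cfsg.Agent.H513.L5.ThA Cfsg.Agent.H513.L5.ThB

universe u

theorem usl_pow (a b : ZMod 5) (n : ℕ) : (us 0 a b) ^ n = us 0 (n * a) (n * b) := by
  induction n with
  | zero => simp [us_one]
  | succ n ih =>
    rw [pow_succ, ih, us_mul]
    congr 1 <;> push_cast <;> ring

theorem usl_split (s t : ZMod 5) : us 0 s t = (us 0 1 0) ^ s.val * (us 0 0 1) ^ t.val := by
  rw [usl_pow, usl_pow, us_mul]
  simp

theorem conj_comm {G : Type*} [Group G] {g c : G} (h : g * c = c * g) : g * c * g⁻¹ = c := by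
  rw [h, mul_inv_cancel_right]

section

variable {K : Type u} [Group K] [Finite K] {x y z a : K} (D : Dat x y z a) {f : SL35 →* K}
  (hf : Function.Injective f)
  (hS : ∀ g : K, (∀ a b c, g * f (us a b c) = f (us a b c) * g) → g ∈ USs.map f)
  (hV : ∀ g h : K, (∀ s t, g * f (us s t 0) = f (us s t 0) * g) → (∀ s t, h * f (us s t 0) = f (us s t 0) * h) →
      g * h = h * g)

include D hf hS hV

theorem exists_g : ∃ g : K, g * f (us 0 1 0) = f (us 0 1 0) * g ∧ ∃ b, g * f (us 1 0 0) * g⁻¹ = f (us 0 b 1) := by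
  classical
  by_contra hcon
  have hcon' : ∀ g : K, g * f (us 0 1 0) = f (us 0 1 0) * g → ∀ b, g * f (us 1 0 0) * g⁻¹ ≠ f (us 0 b 1) :=
    fun g hg b h => hcon ⟨g, hg, b, h⟩
  let C := ↥(centralizer ({f (us 0 1 0)} : Set K))
  have : Fintype C := Fintype.ofFinite _
  have hC : ∀ g : C, (g : K) * f (us 0 1 0) = f (us 0 1 0) * g := fun g => mem_centralizer_singleton_iff.1 g.2
  have hN := fun g : C => norm_US D hf (hC g) 1 0 0
  choose A B E hE using hN
  have hmaps : ∀ g ∈ (Finset.univ : Finset C), (fun g => (A g, E g)) g ∈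
      (Finset.univ.filter fun p : ZMod 5 × ZMod 5 => p ≠ (0, 0) ∧ p ≠ (0, 1)) := by
    intro g _
    rw [Finset.mem_filter]
    refine ⟨Finset.mem_univ _, ?_, ?_⟩
    · intro h
      obtain ⟨h1, h2⟩ := Prod.mk.inj h
      have h3 := hE g
      rw [h1, h2] at h3
      have h4 : (g : K) * f (us 0 (B g) 0) * (g : K)⁻¹ = f (us 0 (B g) 0) := by
        rw [us_split 0 (B g), map_mul, map_pow, map_pow]
        simp only [ZMod.val_zero, pow_zero, one_mul]
        rw [← conj_pow, conj_comm (hC g)]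
      rw [← h4] at h3
      have h5 := mul_left_cancel (mul_right_cancel h3)
      have h6 := (us_inj (hf h5)).1
      exact absurd h6 (by decide)
    · intro h
      obtain ⟨h1, h2⟩ := Prod.mk.inj h
      have h3 := hE g
      rw [h1, h2] at h3
      exact hcon' g (hC g) _ h3
  have hcard : (Finset.univ.filter fun p : ZMod 5 × ZMod 5 => p ≠ (0, 0) ∧ p ≠ (0, 1)).card * 125 <
      (Finset.univ : Finset C).card := by
    have h1 : (Finset.univ.filter fun p : ZMod 5 × ZMod 5 => p ≠ (0, 0) ∧ p ≠ (0, 1)).card = 23 := by decide +kernel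
    rw [h1, Finset.card_univ, ← Nat.card_eq_fintype_card, card_cent D (orderOf_c hf)]
    norm_num
  obtain ⟨y, -, hy⟩ := Finset.exists_lt_card_fiber_of_mul_lt_card_of_maps_to hmaps hcard
  have hne : (Finset.univ.filter fun g : C => (A g, E g) = y).Nonempty := by
    rw [← Finset.card_pos]
    omega
  obtain ⟨g0, hg0⟩ := hne
  have key : ∀ g ∈ Finset.univ.filter fun g : C => (A g, E g) = y, (g0 : K)⁻¹ * (g : K) ∈ USs.map f := by
    intro g hg
    rw [Finset.mem_filter] at hg hg0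
    have h1 : A g = A g0 ∧ E g = E g0 := Prod.mk.inj (hg.2.trans hg0.2.symm)
    have h2 := hE g
    have h3 := hE g0
    rw [h1.1, h1.2] at h2
    have hm : ((g0 : K)⁻¹ * (g : K)) * f (us 0 1 0) = f (us 0 1 0) * ((g0 : K)⁻¹ * (g : K)) :=
      mem_centralizer_singleton_iff.1 ((g0⁻¹ * g : C).2)
    have hg0c : (g0 : K) * f (us 0 (B g - B g0) 0) * (g0 : K)⁻¹ = f (us 0 (B g - B g0) 0) := by
      rw [us_split 0 (B g - B g0), map_mul, map_pow, map_pow]
      simp only [ZMod.val_zero, pow_zero, one_mul]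
      rw [← conj_pow, conj_comm (hC g0)]
    have h4 : ((g0 : K)⁻¹ * (g : K)) * f (us 1 0 0) * ((g0 : K)⁻¹ * (g : K))⁻¹ = f (us 1 (B g - B g0) 0) := by
      have e1 : us (A g0) (B g) (E g0) = us (A g0) (B g0) (E g0) * us 0 (B g - B g0) 0 := by
        rw [us_mul]
        congr 1 <;> ring
      have e2 : us 1 (B g - B g0) 0 = us 1 0 0 * us 0 (B g - B g0) 0 := by
        rw [us_mul]
        congr 1 <;> ring
      calc ((g0 : K)⁻¹ * (g : K)) * f (us 1 0 0) * ((g0 : K)⁻¹ * (g : K))⁻¹ =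
          (g0 : K)⁻¹ * ((g : K) * f (us 1 0 0) * (g : K)⁻¹) * g0 := by group
        _ = (g0 : K)⁻¹ * (f (us (A g0) (B g0) (E g0)) * f (us 0 (B g - B g0) 0)) * g0 := by
          rw [h2, e1, map_mul]
        _ = (g0 : K)⁻¹ * (((g0 : K) * f (us 1 0 0) * (g0 : K)⁻¹) *
            ((g0 : K) * f (us 0 (B g - B g0) 0) * (g0 : K)⁻¹)) * g0 := by rw [h3, hg0c]
        _ = f (us 1 0 0) * f (us 0 (B g - B g0) 0) := by group
        _ = _ := by rw [e2, map_mul]
    have h5 : ∃ w, (g0 : K)⁻¹ * (g : K) = f w := by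
      refine NP hf (fun u hu => ?_) (fun s t => ?_)
      · obtain ⟨s, t, h⟩ := cent_VP D hf hS hV hu
        exact ⟨_, h⟩
      · have e : ((g0 : K)⁻¹ * (g : K)) * f (us s t 0) * ((g0 : K)⁻¹ * (g : K))⁻¹ =
            (((g0 : K)⁻¹ * (g : K)) * f (us 1 0 0) * ((g0 : K)⁻¹ * (g : K))⁻¹) ^ s.val *
            (((g0 : K)⁻¹ * (g : K)) * f (us 0 1 0) * ((g0 : K)⁻¹ * (g : K))⁻¹) ^ t.val := by
          rw [conj_pow, conj_pow, us_split s t, map_mul, map_pow, map_pow]
          group
        rw [e, h4, conj_comm hm, ← map_pow, ← map_pow, ← map_mul, us_pow, us_pow, us_mul]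
        exact ⟨_, _, by congr 2⟩
    obtain ⟨w, hw⟩ := h5
    rw [hw] at hm h4 ⊢
    rw [← map_mul, ← map_mul] at hm
    rw [mul_inv_eq_iff_eq_mul, ← map_mul, ← map_mul] at h4
    obtain ⟨p, q, r, h6⟩ := mem_US (hf hm) (hf h4)
    exact ⟨w, ⟨p, q, r, h6⟩, rfl⟩
  have hle : (Finset.univ.filter fun g : C => (A g, E g) = y).card ≤ 125 := by
    have : Fintype ↥(USs.map f) := Fintype.ofFinite _
    rw [← card_P hf, Nat.card_eq_fintype_card, ← Finset.card_univ (α := ↥(USs.map f))]
    refine Finset.card_le_card_of_injOn (fun g => if h : (g0 : K)⁻¹ * (g : K) ∈ USs.map f then ⟨_, h⟩ else 1)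
      (fun g _ => Finset.mem_coe.2 (Finset.mem_univ _)) ?_
    intro g hg g' hg' h
    have h1 := key g hg
    have h2 := key g' hg'
    simp only [dif_pos h1, dif_pos h2] at h
    have h3 := congrArg Subtype.val h
    exact Subtype.ext (mul_left_cancel h3)
  omega

/-- **the local argument** -/
theorem main (hN : ∀ g : K, (∀ x, ∃ y, g * f x * g⁻¹ = f y) → ∃ y, g = f y) : False := by
  obtain ⟨g, hg, b0, h1⟩ := exists_g D hf hS hV
  have hgc : g * f (us 0 1 0) * g⁻¹ = f (us 0 1 0) := conj_comm hg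
  have hCP : ∀ u : K, (∀ s t, u * f (us s t 0) = f (us s t 0) * u) → ∃ x, u = f x := fun u hu => by
    obtain ⟨s, t, h⟩ := cent_VP D hf hS hV hu
    exact ⟨_, h⟩
  have g1 : ∀ s t, ∃ s' t', g * f (us s t 0) * g⁻¹ = f (us 0 s' t') := by
    intro s t
    have e : g * f (us s t 0) * g⁻¹ = (g * f (us 1 0 0) * g⁻¹) ^ s.val * (g * f (us 0 1 0) * g⁻¹) ^ t.val := by
      rw [conj_pow, conj_pow, us_split s t, map_mul, map_pow, map_pow]
      group
    rw [e, h1, hgc, ← map_pow, ← map_pow, ← map_mul, usl_pow, usl_pow, us_mul, add_zero]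
    exact ⟨_, _, rfl⟩
  have g1' : ∀ s' t', ∃ s t, g * f (us s t 0) * g⁻¹ = f (us 0 s' t') := by
    intro s' t'
    obtain ⟨p, hp⟩ := onto (x := fun p : ZMod 5 × ZMod 5 => f (us p.1 p.2 0))
      (y := fun p : ZMod 5 × ZMod 5 => f (us 0 p.1 p.2)) (g := g) (by
        intro p p' h
        obtain ⟨k1, k2, -⟩ := us_inj (hf h)
        exact Prod.ext k1 k2) (fun p => by
        obtain ⟨s', t', h⟩ := g1 p.1 p.2
        exact ⟨(s', t'), h⟩) (s', t')
    exact ⟨_, _, hp⟩
  -- the normalizer of `VL`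
  have NL : ∀ n : K, (∀ s t, ∃ s' t', n * f (us 0 s t) * n⁻¹ = f (us 0 s' t')) → ∃ x, n = f x := by
    intro n hn
    have hf2 : Function.Injective (f.comp io'.toMonoidHom) := hf.comp io'.injective
    have e2 : ∀ s t, (f.comp io'.toMonoidHom) (us s t 0) = f (us 0 (-t) s) := by
      intro s t
      show f (io' (us s t 0)) = _
      rw [io'_us]
    obtain ⟨w, hw⟩ := NP (f := f.comp io'.toMonoidHom) hf2 (n := n) (fun u hu => by
      have h2 : ∀ s t, (g⁻¹ * u * g) * f (us s t 0) = f (us s t 0) * (g⁻¹ * u * g) := by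
        intro s t
        obtain ⟨s', t', h3⟩ := g1 s t
        have h4 := hu t' (-s')
        rw [e2, neg_neg, ← h3] at h4
        calc (g⁻¹ * u * g) * f (us s t 0) = g⁻¹ * (u * (g * f (us s t 0) * g⁻¹)) * g := by group
          _ = g⁻¹ * (g * f (us s t 0) * g⁻¹ * u) * g := by rw [h4]
          _ = _ := by group
      obtain ⟨s, t, h3⟩ := cent_VP D hf hS hV h2
      obtain ⟨s', t', h4⟩ := g1 s t
      refine ⟨us t' (-s') 0, ?_⟩
      rw [e2, neg_neg, ← h4, ← h3]
      group) (fun s t => by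
      obtain ⟨s', t', h3⟩ := hn (-t) s
      refine ⟨t', -s', ?_⟩
      rw [e2, e2, h3, neg_neg])
    exact ⟨_, hw⟩
  -- the conjugate of the torus element
  have hdm : ∀ s t r, f dm * f (us s t r) = f (us (3 * s) t (2 * r)) * f dm := by
    intro s t r
    rw [← map_mul, ← map_mul, dm_mul]
  obtain ⟨w, hw⟩ : ∃ w, g * f dm * g⁻¹ = f w := by
    apply NL
    intro s t
    obtain ⟨s', t', h2⟩ := g1' s t
    obtain ⟨s'', t'', h3⟩ := g1 (3 * s') t'
    refine ⟨s'', t'', ?_⟩
    rw [← h2, ← h3]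
    have h4 := hdm s' t' 0
    rw [mul_zero] at h4
    calc g * f dm * g⁻¹ * (g * f (us s' t' 0) * g⁻¹) * (g * f dm * g⁻¹)⁻¹ =
        g * (f dm * f (us s' t' 0)) * (f dm)⁻¹ * g⁻¹ := by group
      _ = g * (f (us (3 * s') t' 0) * f dm) * (f dm)⁻¹ * g⁻¹ := by rw [h4]
      _ = _ := by group
  have hwc : w * us 0 1 0 = us 0 1 0 * w := by
    apply hf
    rw [map_mul, map_mul, ← hw]
    have h4 := hdm 0 1 0
    simp only [mul_zero] at h4
    calc g * f dm * g⁻¹ * f (us 0 1 0) = g * f dm * g⁻¹ * (g * f (us 0 1 0) * g⁻¹) := by rw [hgc]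
      _ = g * (f dm * f (us 0 1 0)) * g⁻¹ := by group
      _ = g * (f (us 0 1 0) * f dm) * g⁻¹ := by rw [h4]
      _ = (g * f (us 0 1 0) * g⁻¹) * (g * f dm * g⁻¹) := by group
      _ = _ := by rw [hgc]
  have hw1 : w * us 0 b0 1 = us 0 (3 * b0) (3 * 1) * w := by
    apply hf
    rw [map_mul, map_mul, ← hw]
    have h4 := hdm 1 0 0
    simp only [mul_zero, mul_one] at h4
    have h5 : us 3 0 0 = (us 1 0 0) ^ 3 := by
      rw [us_pow]
      simp
    have h6 : us 0 (3 * b0) (3 * 1) = (us 0 b0 1) ^ 3 := by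
      rw [usl_pow]
      simp
    rw [h5] at h4
    calc g * f dm * g⁻¹ * f (us 0 b0 1) = g * f dm * g⁻¹ * (g * f (us 1 0 0) * g⁻¹) := by rw [h1]
      _ = g * (f dm * f (us 1 0 0)) * g⁻¹ := by group
      _ = g * (f ((us 1 0 0) ^ 3) * f dm) * g⁻¹ := by rw [h4]
      _ = (g * f (us 1 0 0) * g⁻¹) ^ 3 * (g * f dm * g⁻¹) := by rw [conj_pow, map_pow]; group
      _ = _ := by rw [h1, h6, map_pow]
  obtain ⟨a1, b1, c1, h2⟩ := norm_US D hf hg 0 0 1
  have hw2 : w * us a1 b1 c1 = us (a1 + a1) (b1 + a1 * c1 + b1) (c1 + c1) * w := by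
    apply hf
    rw [map_mul, map_mul, ← hw]
    have h4 := hdm 0 0 1
    simp only [mul_zero, mul_one] at h4
    have h5 : us 0 0 2 = us 0 0 1 * us 0 0 1 := by
      rw [us_mul]
      congr 1
    rw [h5] at h4
    calc g * f dm * g⁻¹ * f (us a1 b1 c1) = g * f dm * g⁻¹ * (g * f (us 0 0 1) * g⁻¹) := by rw [h2]
      _ = g * (f dm * f (us 0 0 1)) * g⁻¹ := by group
      _ = g * (f (us 0 0 1 * us 0 0 1) * f dm) * g⁻¹ := by rw [h4]
      _ = (g * f (us 0 0 1) * g⁻¹) * (g * f (us 0 0 1) * g⁻¹) * (g * f dm * g⁻¹) := by rw [map_mul]; group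
      _ = _ := by rw [h2, ← map_mul, us_mul]
  have hc1 : c1 = 0 := by
    obtain ⟨-, -, -, -, k5, -⟩ := cent_form hwc
    obtain ⟨-, e1⟩ := cent_us hwc hw1
    obtain ⟨-, e2⟩ := cent_us hwc hw2
    have h3 : w.1 0 0 * c1 = 0 := by linear_combination e2 - c1 * e1
    exact (mul_eq_zero.1 h3).resolve_left k5
  subst hc1
  have g2 : ∀ s t, ∃ s' t', g * f (us 0 s t) * g⁻¹ = f (us s' t' 0) := by
    intro s t
    have e : g * f (us 0 s t) * g⁻¹ = (g * f (us 0 1 0) * g⁻¹) ^ s.val * (g * f (us 0 0 1) * g⁻¹) ^ t.val := by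
      rw [conj_pow, conj_pow, usl_split s t, map_mul, map_pow, map_pow]
      group
    rw [e, h2, hgc, ← map_pow, ← map_pow, ← map_mul, us_pow, us_pow, us_mul, add_zero]
    exact ⟨_, _, rfl⟩
  have g2' : ∀ s' t', ∃ s t, g * f (us 0 s t) * g⁻¹ = f (us s' t' 0) := by
    intro s' t'
    obtain ⟨p, hp⟩ := onto (x := fun p : ZMod 5 × ZMod 5 => f (us 0 p.1 p.2))
      (y := fun p : ZMod 5 × ZMod 5 => f (us p.1 p.2 0)) (g := g) (by
        intro p p' h
        obtain ⟨-, k1, k2⟩ := us_inj (hf h)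
        exact Prod.ext k1 k2) (fun p => by
        obtain ⟨s', t', h⟩ := g2 p.1 p.2
        exact ⟨(s', t'), h⟩) (s', t')
    exact ⟨_, _, hp⟩
  let H : Subgroup SL35 :=
    { carrier := {x | ∃ y, g * f x * g⁻¹ = f y}
      one_mem' := ⟨1, by rw [map_one, mul_one, mul_inv_cancel]⟩
      mul_mem' := by
        rintro u v ⟨y, hy⟩ ⟨y', hy'⟩
        refine ⟨y * y', ?_⟩
        rw [map_mul, map_mul, ← hy, ← hy']
        group
      inv_mem' := by
        rintro u ⟨y, hy⟩
        refine ⟨y⁻¹, ?_⟩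
        rw [map_inv, map_inv, ← hy]
        group }
  have hH : ∀ x, x ∈ H := by
    refine gen (fun x hx => ?_) (fun x hx => ?_)
    · apply NL
      intro s t
      obtain ⟨s', t', h3⟩ := g1' s t
      obtain ⟨s'', t'', h4⟩ := hx s' t'
      obtain ⟨s3, t3, h5⟩ := g1 s'' t''
      refine ⟨s3, t3, ?_⟩
      rw [← h3, ← h5]
      have h6 : f x * f (us s' t' 0) = f (us s'' t'' 0) * f x := by rw [← map_mul, ← map_mul, h4]
      calc g * f x * g⁻¹ * (g * f (us s' t' 0) * g⁻¹) * (g * f x * g⁻¹)⁻¹ =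
          g * (f x * f (us s' t' 0)) * (f x)⁻¹ * g⁻¹ := by group
        _ = g * (f (us s'' t'' 0) * f x) * (f x)⁻¹ * g⁻¹ := by rw [h6]
        _ = _ := by group
    · refine NP hf hCP (fun s t => ?_)
      obtain ⟨s', t', h3⟩ := g2' s t
      obtain ⟨s'', t'', h4⟩ := hx s' t'
      obtain ⟨s3, t3, h5⟩ := g2 s'' t''
      refine ⟨s3, t3, ?_⟩
      rw [← h3, ← h5]
      have h6 : f x * f (us 0 s' t') = f (us 0 s'' t'') * f x := by rw [← map_mul, ← map_mul, h4]
      calc g * f x * g⁻¹ * (g * f (us 0 s' t') * g⁻¹) * (g * f x * g⁻¹)⁻¹ =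
          g * (f x * f (us 0 s' t')) * (f x)⁻¹ * g⁻¹ := by group
        _ = g * (f (us 0 s'' t'') * f x) * (f x)⁻¹ * g⁻¹ := by rw [h6]
        _ = _ := by group
  obtain ⟨y, hy⟩ := hN g hH
  rw [hy, ← map_mul, ← map_mul] at hg
  rw [hy, mul_inv_eq_iff_eq_mul, ← map_mul, ← map_mul] at h1
  obtain ⟨e1, -⟩ := cent_us (hf hg) (hf h1)
  obtain ⟨-, -, -, -, k5, -⟩ := cent_form (hf hg)
  rw [mul_one, mul_zero] at e1
  exact k5 e1

end

end Cfsg.Agent.H513.L5.ThC
end

-- part: H513/L5/ThE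
section
set_option linter.all false
open scoped Cfsg.Agent.FastGrp

/-!
# S5923 (M7): `Th` (helper513)

`no_th_of` : `no_th` with the normalizer statement `norm_eq` as a hypothesis.
-/

set_option autoImplicit false
set_option linter.unusedSectionVars false

namespace Cfsg.Agent.H513.L5

open Subgroup Cfsg.Agent.H49.ThFive Cfsg.Agent.H865.L5 Cfsg.Agent.H513.L5.ThB Cfsg.Agent.H513.L5.ThC

theorem no_th_of {f : SL35 →* G3} (h : GoodIn ⊤ f) (hf : Function.Injective f)
    (hnorm : Subgroup.normalizer (f.range : Set G3) = f.range) {T : Subgroup G3}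
    (hT : Cfsg.Spor.IsoTh T) (hT2 : f.range ≤ T) : False := by
  obtain ⟨hfin, x, y, z, a, D⟩ := exists_dat
  obtain ⟨e⟩ := hT
  obtain ⟨F, hF⟩ : ∃ F : SL35 →* Spor.Th, ∀ s, ((e.symm (F s) : T) : G3) = f s :=
    ⟨e.toMonoidHom.comp (f.codRestrict T fun s => hT2 ⟨s, rfl⟩), fun s => by simp⟩
  have hFi : Function.Injective F := by
    intro s t hst
    apply hf
    rw [← hF s, ← hF t, hst]
  have hback : ∀ (g : Spor.Th) (s : SL35), ((e.symm g : T) : G3) = f s → g = F s := by
    intro g s hg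
    rw [← hF s] at hg
    exact e.symm.injective (Subtype.ext hg)
  have hcomm : ∀ (g : Spor.Th) (s : SL35), g * F s = F s * g → ((e.symm g : T) : G3) * f s = f s * ((e.symm g : T) : G3) := by
    intro g s hg
    have := congrArg (fun w : Spor.Th => ((e.symm w : T) : G3)) hg
    simpa only [map_mul, Subgroup.coe_mul, hF] using this
  refine main D (f := F) hFi ?_ ?_ ?_
  · intro g hg
    obtain ⟨s, ⟨p, q, r, hs⟩, hgs⟩ := h.centS ((e.symm g : T) : G3) trivial (by
      rintro s ⟨p, q, r, rfl⟩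
      exact hcomm g _ (hg p q r))
    exact ⟨s, ⟨p, q, r, hs⟩, (hback g s hgs).symm⟩
  · intro g g' hg hg'
    have h1 := h.centV ((e.symm g : T) : G3) trivial ((e.symm g' : T) : G3) trivial (by
      rintro s ⟨p, q, rfl⟩
      exact hcomm g _ (hg p q)) (by
      rintro s ⟨p, q, rfl⟩
      exact hcomm g' _ (hg' p q))
    have h2 : e.symm (g * g') = e.symm (g' * g) := by
      rw [map_mul, map_mul]
      exact Subtype.ext h1
    exact e.symm.injective h2
  · intro g hg
    have h1 : ∀ s, ∃ t, ((e.symm g : T) : G3) * f s * ((e.symm g : T) : G3)⁻¹ = f t := by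
      intro s
      obtain ⟨t, ht⟩ := hg s
      refine ⟨t, ?_⟩
      have := congrArg (fun w : Spor.Th => ((e.symm w : T) : G3)) ht
      simpa only [map_mul, map_inv, Subgroup.coe_mul, Subgroup.coe_inv, hF] using this
    have h2 := onto (x := f) (y := f) hf h1
    have h3 : ((e.symm g : T) : G3) ∈ Subgroup.normalizer (f.range : Set G3) := by
      rw [Subgroup.mem_normalizer_iff]
      intro w
      constructor
      · rintro ⟨s, rfl⟩
        obtain ⟨t, ht⟩ := h1 s
        exact ⟨t, ht.symm⟩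
      · rintro ⟨t, ht⟩
        obtain ⟨s, hs⟩ := h2 t
        refine ⟨s, ?_⟩
        rw [ht] at hs
        exact mul_left_cancel (mul_right_cancel hs)
    rw [hnorm] at h3
    obtain ⟨s, hs⟩ := h3
    exact ⟨s, hback g s hs.symm⟩

end Cfsg.Agent.H513.L5
end
end
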